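/-
Similitude embeddings of quadratic spaces over finite fields of odd order and the induced maps of
orthogonal groups.
-/
import Cfsg.Agent.Lib.Orth52.Rank
import Cfsg.Agent.Lib.Orth52.Classify
import Cfsg.Agent.Lib.Orth52.Discriminant
import Cfsg.Agent.Lib.Forms.Bridge

set_option autoImplicit false

namespace Cfsg.Agent.Lib.SpecNine64

open Module QuadraticMap
open Cfsg.Agent.Lib.Forms
open Cfsg.Agent.Lib.Orth52

variable {F : Type*} [Field F]
variable {V : Type*} [AddCommGroup V] [Module F V]
variable {W : Type*} [AddCommGroup W] [Module F W]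
variable {U : Type*} [AddCommGroup U] [Module F U]

/-- A map multiplying the form by a non-zero scalar. -/
structure Sim (R : QuadraticForm F W) (Q : QuadraticForm F V) where
  f : W →ₗ[F] V
  t : F
  ht : t ≠ 0
  map : ∀ x, Q (f x) = t * R x

namespace Sim

variable {R : QuadraticForm F W} {Q : QuadraticForm F V} {P : QuadraticForm F U}

theorem polar_map (i : Sim R Q) (x y : W) : polar Q (i.f x) (i.f y) = i.t * polar R x y := by
  simp only [polar, ← map_add, i.map]; ring

theorem injective (i : Sim R Q) (hR : Nondeg R) : Function.Injective i.f := by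
  rw [injective_iff_map_eq_zero]
  intro x hx
  refine hR x fun y => ?_
  have h := i.polar_map x y
  rw [hx, polar_zero_left] at h
  exact (mul_eq_zero.1 h.symm).resolve_left i.ht

/-- Composition. -/
def comp (i : Sim R Q) (j : Sim P R) : Sim P Q where
  f := i.f.comp j.f
  t := i.t * j.t
  ht := mul_ne_zero i.ht j.ht
  map x := by show Q (i.f (j.f x)) = _; rw [i.map, j.map, mul_assoc]

/-- An isometric equivalence. -/
def ofEquiv (e : R.IsometryEquiv Q) : Sim R Q where
  f := e.toLinearEquiv.toLinearMap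
  t := 1
  ht := one_ne_zero
  map x := (e.map_app x).trans (one_mul _).symm

/-- The first summand. -/
def inl (R : QuadraticForm F W) (P : QuadraticForm F U) : Sim R (R.prod P) where
  f := LinearMap.inl F W U
  t := 1
  ht := one_ne_zero
  map x := by simp [QuadraticMap.prod_apply]

/-- The second summand. -/
def inr (R : QuadraticForm F W) (P : QuadraticForm F U) : Sim P (R.prod P) where
  f := LinearMap.inr F W U
  t := 1
  ht := one_ne_zero
  map x := by simp [QuadraticMap.prod_apply]

/-- A subspace. -/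
def sub (Q : QuadraticForm F V) (S : Submodule F V) : Sim (res Q S) Q where
  f := S.subtype
  t := 1
  ht := one_ne_zero
  map x := (one_mul _).symm

variable [FiniteDimensional F W]

/-- The orthogonal projection back to the source. -/
noncomputable def proj (i : Sim R Q) (hR : Nondeg R) : V →ₗ[F] W :=
  (LinearMap.BilinForm.toDual (polarBilin R) hR.polarBilin).symm.toLinearMap ∘ₗ
    (i.t⁻¹ • (LinearMap.llcomp F W V F).flip i.f ∘ₗ polarBilin Q)

theorem polar_proj (i : Sim R Q) (hR : Nondeg R) (v : V) (x : W) :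
    i.t * polar R (i.proj hR v) x = polar Q v (i.f x) := by
  show i.t * polarBilin R (i.proj hR v) x = _
  rw [← LinearMap.BilinForm.toDual_def hR.polarBilin, proj, LinearMap.comp_apply, LinearEquiv.coe_coe,
    LinearEquiv.apply_symm_apply]
  simp [i.ht]

theorem proj_eq (i : Sim R Q) (hR : Nondeg R) {v : V} {x : W}
    (h : ∀ y, polar Q (i.f y) (v - i.f x) = 0) : i.proj hR v = x := by
  refine sub_eq_zero.1 (hR _ fun y => ?_)
  have h1 := h y
  rw [polar_sub_right, polar_comm Q (i.f y) v, ← i.polar_proj hR, i.polar_map, polar_comm R y x,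
    ← mul_sub] at h1
  rw [polar_sub_left]
  exact (mul_eq_zero.1 h1).resolve_left i.ht

theorem proj_f (i : Sim R Q) (hR : Nondeg R) (x : W) : i.proj hR (i.f x) = x :=
  i.proj_eq hR fun y => by rw [sub_self, polar_zero_right]

/-- The extension of an isometry as a linear map. -/
noncomputable def extMap (i : Sim R Q) (hR : Nondeg R) (h : orth R) : V →ₗ[F] V :=
  LinearMap.id + i.f ∘ₗ (h.1.toLinearMap - LinearMap.id) ∘ₗ i.proj hR

theorem extMap_apply (i : Sim R Q) (hR : Nondeg R) (h : orth R) (v : V) :
    i.extMap hR h v = v + i.f (h.1 (i.proj hR v) - i.proj hR v) := rfl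

theorem proj_extMap (i : Sim R Q) (hR : Nondeg R) (h : orth R) (v : V) :
    i.proj hR (i.extMap hR h v) = h.1 (i.proj hR v) := by
  rw [extMap_apply, map_add, proj_f, add_sub_cancel]

theorem extMap_mul (i : Sim R Q) (hR : Nondeg R) (h k : orth R) (v : V) :
    i.extMap hR (h * k) v = i.extMap hR h (i.extMap hR k v) := by
  rw [extMap_apply i hR h, proj_extMap, extMap_apply, extMap_apply, add_assoc, ← map_add]
  show v + i.f (h.1 (k.1 _) - _) = _
  congr 2; abel

theorem extMap_one (i : Sim R Q) (hR : Nondeg R) (v : V) : i.extMap hR 1 v = v := by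
  rw [extMap_apply]
  show v + i.f (i.proj hR v - i.proj hR v) = v
  rw [sub_self, map_zero, add_zero]

/-- The extension of an isometry, the identity on the orthogonal complement. -/
noncomputable def extEquiv (i : Sim R Q) (hR : Nondeg R) (h : orth R) : V ≃ₗ[F] V :=
  LinearEquiv.ofLinearMap (i.extMap hR h) (i.extMap hR h⁻¹)
    (LinearMap.ext fun v => by
      rw [LinearMap.comp_apply, ← extMap_mul, mul_inv_cancel, extMap_one]; rfl)
    (LinearMap.ext fun v => by
      rw [LinearMap.comp_apply, ← extMap_mul, inv_mul_cancel, extMap_one]; rfl)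

/-- The induced homomorphism of orthogonal groups. -/
noncomputable def ext (i : Sim R Q) (hR : Nondeg R) : orth R →* orth Q where
  toFun h := ⟨i.extEquiv hR h, fun v => by
    show Q (i.extMap hR h v) = Q v
    rw [extMap_apply, Q_add, i.map, ← i.polar_proj hR]
    set π := i.proj hR v
    have h1 := h.2 π
    have h2 := Q_add R (h.1 π - π) π
    rw [sub_add_cancel, h1, polar_comm R _ π] at h2
    linear_combination (-i.t) * h2⟩
  map_one' := Subtype.ext (LinearEquiv.ext fun v => extMap_one i hR v)
  map_mul' h k := Subtype.ext (LinearEquiv.ext fun v => extMap_mul i hR h k v)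

theorem ext_apply (i : Sim R Q) (hR : Nondeg R) (h : orth R) (v : V) :
    (i.ext hR h).1 v = v + i.f (h.1 (i.proj hR v) - i.proj hR v) := rfl

theorem ext_apply_of (i : Sim R Q) (hR : Nondeg R) (h : orth R) {v z : V} {x : W}
    (hv : v = i.f x + z) (hz : ∀ y, polar Q (i.f y) z = 0) : (i.ext hR h).1 v = i.f (h.1 x) + z := by
  subst hv
  rw [ext_apply, i.proj_eq hR (x := x) fun y => by rw [add_sub_cancel_left]; exact hz y, map_sub]
  abel

theorem ext_f (i : Sim R Q) (hR : Nondeg R) (h : orth R) (x : W) :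
    (i.ext hR h).1 (i.f x) = i.f (h.1 x) := by
  simpa using i.ext_apply_of hR h (v := i.f x) (z := 0) (by simp) fun y => polar_zero_right _ _

theorem ext_fix (i : Sim R Q) (hR : Nondeg R) (h : orth R) {z : V}
    (hz : ∀ y, polar Q (i.f y) z = 0) : (i.ext hR h).1 z = z := by
  simpa using i.ext_apply_of hR h (v := z) (x := 0) (by simp) hz

theorem ext_injective (i : Sim R Q) (hR : Nondeg R) : Function.Injective (i.ext hR) := by
  intro h k e
  refine Subtype.ext (LinearEquiv.ext fun x => i.injective hR ?_)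
  rw [← ext_f i hR, ← ext_f i hR, e]

theorem ext_mem_commutator (i : Sim R Q) (hR : Nondeg R) {h : orth R}
    (hh : h ∈ commutator (orth R)) : i.ext hR h ∈ commutator (orth Q) :=
  apply_mem_commutator _ hh

theorem ext_orefl (i : Sim R Q) (hR : Nondeg R) (ht : i.t = 1) (w : W) :
    i.ext hR (orefl R w) = orefl Q (i.f w) := by
  refine Subtype.ext (LinearEquiv.ext fun v => ?_)
  rw [ext_apply]
  show v + i.f (refl R w (i.proj hR v) - i.proj hR v) = refl Q (i.f w) v
  rw [refl_apply, refl_apply, i.map, ht, one_mul, polar_comm Q (i.f w) v, ← i.polar_proj hR v w, ht,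
    one_mul, polar_comm R w, sub_sub_cancel_left, map_neg, map_smul, sub_eq_add_neg]

variable [Finite F] [FiniteDimensional F V] [Finite V] [Finite W]

theorem finrank_le (i : Sim R Q) (hR : Nondeg R) : finrank F W ≤ finrank F V :=
  LinearMap.finrank_le_finrank_of_injective (i.injective hR)

theorem dickson_ext (i : Sim R Q) (hR : Nondeg R) (hQ : Nondeg Q) (ht : i.t = 1) (h2 : (2 : F) ≠ 0)
    (h : orth R) : dickson Q (i.ext hR h) = dickson R h := by
  have hm : h ∈ Subgroup.closure (reflSet R) := by
    rw [closure_reflSet hR (Or.inl (exists_ne01 h2))]; trivial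
  have := MonoidHom.eqOn_closure (f := (dicksonHom hQ (Or.inl (exists_ne01 h2))).comp (i.ext hR))
    (g := dicksonHom hR (Or.inl (exists_ne01 h2))) (s := reflSet R) ?_ hm
  · exact Multiplicative.ofAdd.injective this
  · rintro _ ⟨w, hw, rfl⟩
    have hw' : Q (i.f w) ≠ 0 := by rw [i.map, ht, one_mul]; exact hw
    rw [MonoidHom.comp_apply, i.ext_orefl hR ht, dicksonHom_orefl hQ _ hw', dicksonHom_orefl hR _ hw]

theorem spinHom_ext (i : Sim R Q) (hR : Nondeg R) (hQ : Nondeg Q) (ht : i.t = 1) (h2 : (2 : F) ≠ 0)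
    (hn : 2 ≤ finrank F W) (hn' : 2 ≤ finrank F V) (h : orth R) :
    spinHom hQ h2 hn' (i.ext hR h) = spinHom hR h2 hn h := by
  have hm : h ∈ Subgroup.closure (reflSet R) := by
    rw [closure_reflSet hR (Or.inl (exists_ne01 h2))]; trivial
  refine MonoidHom.eqOn_closure (f := (spinHom hQ h2 hn').comp (i.ext hR))
    (g := spinHom hR h2 hn) (s := reflSet R) ?_ hm
  rintro _ ⟨w, hw, rfl⟩
  have hw' : Q (i.f w) ≠ 0 := by rw [i.map, ht, one_mul]; exact hw
  rw [MonoidHom.comp_apply, i.ext_orefl hR ht]
  have h1 := spinHom_orefl_eq_one_iff hQ h2 hn' hw'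
  have h3 := spinHom_orefl_eq_one_iff hR h2 hn hw
  rw [i.map, ht, one_mul] at h1
  rcases Int.units_eq_one_or (spinHom hQ h2 hn' (orefl Q (i.f w))) with e | e <;>
    rcases Int.units_eq_one_or (spinHom hR h2 hn (orefl R w)) with e' | e' <;> rw [e, e']
  · rw [h3.2 (h1.1 e)] at e'; exact e'
  · rw [h1.2 (h3.1 e')] at e; exact e.symm

theorem ext_mem_commutator_iff (i : Sim R Q) (hR : Nondeg R) (hQ : Nondeg Q) (ht : i.t = 1)
    (h2 : (2 : F) ≠ 0) (hn : 2 ≤ finrank F W) (h : orth R) :
    i.ext hR h ∈ commutator (orth Q) ↔ h ∈ commutator (orth R) := by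
  have hn' : 2 ≤ finrank F V := hn.trans (i.finrank_le hR)
  rw [mem_commutator_iff_spin hQ h2 hn', mem_commutator_iff_spin hR h2 hn, i.dickson_ext hR hQ ht h2,
    i.spinHom_ext hR hQ ht h2 hn hn']

end Sim

/-! ### Block sums -/

section Prod

variable [FiniteDimensional F W] [FiniteDimensional F U]
variable {R : QuadraticForm F W} {P : QuadraticForm F U}

/-- The block sum of two isometries. -/
noncomputable def both (hR : Nondeg R) (hP : Nondeg P) (h : orth R) (k : orth P) : orth (R.prod P) :=
  (Sim.inl R P).ext hR h * (Sim.inr R P).ext hP k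

theorem both_apply (hR : Nondeg R) (hP : Nondeg P) (h : orth R) (k : orth P) (v : W × U) :
    (both hR hP h k).1 v = (h.1 v.1, k.1 v.2) := by
  show ((Sim.inl R P).ext hR h).1 (((Sim.inr R P).ext hP k).1 v) = _
  rw [(Sim.inr R P).ext_apply_of hP k (v := v) (x := v.2) (z := (v.1, 0)) (Prod.ext (zero_add _).symm (add_zero _).symm)
      (fun y => by simp [Sim.inr, prod_polar]),
    (Sim.inl R P).ext_apply_of hR h (v := (Sim.inr R P).f (k.1 v.2) + (v.1, 0)) (x := v.1) (z := (0, k.1 v.2)) (by simp [Sim.inl, Sim.inr])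
      (fun y => by simp [Sim.inl, prod_polar])]
  simp [Sim.inl]

theorem both_pow (hR : Nondeg R) (hP : Nondeg P) (h : orth R) (k : orth P) (n : ℕ) :
    both hR hP h k ^ n = both hR hP (h ^ n) (k ^ n) := by
  induction n with
  | zero => refine Subtype.ext (LinearEquiv.ext fun v => ?_); rw [both_apply]; rfl
  | succ n ih =>
    rw [pow_succ, ih]
    refine Subtype.ext (LinearEquiv.ext fun v => ?_)
    show (both hR hP (h ^ n) (k ^ n)).1 ((both hR hP h k).1 v) = _
    rw [both_apply, both_apply, both_apply, pow_succ, pow_succ]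
    rfl

theorem both_dvd (hR : Nondeg R) (hP : Nondeg P) (h : orth R) (k : orth P) :
    orderOf h ∣ orderOf (both hR hP h k) ∧ orderOf k ∣ orderOf (both hR hP h k) := by
  have h1 := pow_orderOf_eq_one (both hR hP h k)
  rw [both_pow] at h1
  constructor
  · refine orderOf_dvd_of_pow_eq_one (Subtype.ext (LinearEquiv.ext fun x => ?_))
    have := congrArg Prod.fst (LinearEquiv.congr_fun (congrArg Subtype.val h1) (x, 0))
    rw [both_apply] at this
    exact this
  · refine orderOf_dvd_of_pow_eq_one (Subtype.ext (LinearEquiv.ext fun x => ?_))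
    have := congrArg Prod.snd (LinearEquiv.congr_fun (congrArg Subtype.val h1) (0, x))
    rw [both_apply] at this
    exact this

end Prod

/-! ### Existence of embeddings -/

theorem exists_nonsingular {Q : QuadraticForm F V} (hQ : Nondeg Q) [Nontrivial V] : ∃ v, Q v ≠ 0 := by
  by_contra hc
  push Not at hc
  obtain ⟨x, hx⟩ := exists_ne (0 : V)
  exact hx (hQ x fun y => by rw [polar, hc, hc, hc, sub_zero, sub_zero])

theorem perp_line [FiniteDimensional F V] {Q : QuadraticForm F V} (hQ : Nondeg Q) (h2 : (2 : F) ≠ 0)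
    {v : V} (hv : Q v ≠ 0) :
    Nondeg (res Q (LinearMap.ker (polarBilin Q v))) ∧
      finrank F (LinearMap.ker (polarBilin Q v)) + 1 = finrank F V := by
  have hpv : polar Q v v ≠ 0 := by rw [polar_self']; exact mul_ne_zero h2 hv
  constructor
  · intro w hw
    refine Subtype.ext (hQ _ fun y => ?_)
    have hwv : polar Q (w : V) v = 0 := (polar_comm Q _ _).trans w.2
    have hy : y - (polar Q v y / polar Q v v) • v ∈ LinearMap.ker (polarBilin Q v) := by
      show polar Q v _ = 0
      rw [polar_sub_right, polar_smul_right, smul_eq_mul, div_mul_cancel₀ _ hpv, sub_self]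
    have := hw ⟨_, hy⟩
    rw [res_polar] at this
    simpa [polar_sub_right, polar_smul_right, hwv] using this
  · have h3 := LinearMap.finrank_range_add_finrank_ker (polarBilin Q v)
    have hr : LinearMap.range (polarBilin Q v) = ⊤ := by
      refine LinearMap.range_eq_top.2 fun c => ⟨(c / polar Q v v) • v, ?_⟩
      show polar Q v _ = c
      rw [polar_smul_right, smul_eq_mul, div_mul_cancel₀ _ hpv]
    rw [hr, finrank_top, finrank_self] at h3
    omega

/-- A non-degenerate space embeds isometrically into every larger one. -/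
theorem exists_embed [Finite F] [FiniteDimensional F V] [FiniteDimensional F W] (h2 : (2 : F) ≠ 0)
    {R : QuadraticForm F W} {Q : QuadraticForm F V} (hR : Nondeg R) (hQ : Nondeg Q)
    (hlt : finrank F W < finrank F V) : ∃ i : Sim R Q, i.t = 1 := by
  generalize hn : finrank F W = n at hlt
  induction n generalizing W V with
  | zero =>
    have : Subsingleton W := finrank_zero_iff.1 hn
    exact ⟨⟨0, 1, one_ne_zero, fun x => by simp [Subsingleton.elim x 0]⟩, rfl⟩
  | succ n ih =>
    have : Nontrivial W := Module.nontrivial_of_finrank_pos (R := F) (by omega)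
    obtain ⟨w, hw⟩ := exists_nonsingular hR
    obtain ⟨v, hv⟩ := exists_Q_eq hQ (by omega) (R w)
    obtain ⟨hR', hd⟩ := perp_line hR h2 hw
    obtain ⟨hQ', hd'⟩ := perp_line hQ h2 (show Q v ≠ 0 by rw [hv]; exact hw)
    obtain ⟨i, hi⟩ := ih hR' hQ' (by omega) (by omega)
    have hpw : polar R w w ≠ 0 := by rw [polar_self']; exact mul_ne_zero h2 hw
    let c : W →ₗ[F] F := (polar R w w)⁻¹ • polarBilin R w
    let r : W →ₗ[F] W := LinearMap.id - c.smulRight w
    have hr : ∀ x, r x ∈ LinearMap.ker (polarBilin R w) := fun x => by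
      show polar R w (x - ((polar R w w)⁻¹ * polar R w x) • w) = 0
      rw [polar_sub_right, polar_smul_right, smul_eq_mul]
      field_simp
      ring
    refine ⟨⟨c.smulRight v + (LinearMap.ker (polarBilin Q v)).subtype ∘ₗ i.f ∘ₗ r.codRestrict _ hr, 1,
      one_ne_zero, fun x => ?_⟩, rfl⟩
    show Q (c x • v + (i.f (r.codRestrict _ hr x) : V)) = 1 * R x
    have h1 : polar Q v (i.f (r.codRestrict _ hr x) : V) = 0 :=
      (i.f (r.codRestrict _ hr x)).2
    have h3 : Q (i.f (r.codRestrict _ hr x) : V) = R (r x) := by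
      have := i.map (r.codRestrict _ hr x)
      rwa [hi, one_mul] at this
    have h4 : x = c x • w + r x := by simp [r, c]
    conv_rhs => rw [h4]
    rw [Q_add, Q_add, Q_smul, Q_smul, polar_smul_left, polar_smul_left, h1, h3, hv,
      show polar R w (r x) = 0 from hr x]
    ring

/-! ### Similar and equivalent forms -/

/-- Two non-degenerate forms in the same odd dimension are similar. -/
theorem exists_sim_odd [Finite F] [FiniteDimensional F V] [FiniteDimensional F W]
    {R : QuadraticForm F W} {Q : QuadraticForm F V} (hR : Nondeg R) (hQ : Nondeg Q)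
    (hd : finrank F W = finrank F V) (hodd : Odd (finrank F V)) : Nonempty (Sim R Q) := by
  obtain ⟨k, hk⟩ := hodd
  rcases classify Q hQ with ⟨m, hm, -⟩ | ⟨m, c, hc, -, hm, ⟨e⟩⟩ | ⟨m, a, b, -, hm, -⟩
  · omega
  · rcases classify R hR with ⟨m', hm', -⟩ | ⟨m', c', hc', -, hm', ⟨e'⟩⟩ | ⟨m', a, b, -, hm', -⟩
    · omega
    · obtain rfl : m' = m := by omega
      obtain ⟨g, hg⟩ := exists_similar_qPlus (F := F) m' (c := c / c') (div_ne_zero hc hc')
      let s : Sim ((qPlus (F := F) m').prod (qOne c')) ((qPlus m').prod (qOne c)) :=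
        { f := g.toLinearMap.prodMap LinearMap.id
          t := c / c'
          ht := div_ne_zero hc hc'
          map := fun x => by
            simp [QuadraticMap.prod_apply, qOne_apply, hg]
            field_simp }
      exact ⟨((Sim.ofEquiv e.symm).comp s).comp (Sim.ofEquiv e')⟩
    · omega
  · omega

/-- Anisotropic binary forms are equivalent. -/
theorem qBin_equivalent [Finite F] (h2 : (2 : F) ≠ 0) {a b a' b' : F}
    (hab : ∀ z₁ z₂ : F, z₁ ^ 2 + a * z₁ * z₂ + b * z₂ ^ 2 = 0 → z₁ = 0 ∧ z₂ = 0)
    (hab' : ∀ z₁ z₂ : F, z₁ ^ 2 + a' * z₁ * z₂ + b' * z₂ ^ 2 = 0 → z₁ = 0 ∧ z₂ = 0) :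
    (qBin a b).Equivalent (qBin a' b') := by
  classical
  have := Fintype.ofFinite F
  have h4 : (4 : F) ≠ 0 := by
    rw [show (4 : F) = 2 * 2 by norm_num]; exact mul_ne_zero h2 h2
  have hd := binary_disc_not_square h2 hab
  have hd' := binary_disc_not_square h2 hab'
  have h0 : a ^ 2 - 4 * b ≠ 0 := fun h => hd (h ▸ IsSquare.zero)
  have h0' : a' ^ 2 - 4 * b' ≠ 0 := fun h => hd' (h ▸ IsSquare.zero)
  have hchar : ringChar F ≠ 2 := fun h => h2 (by
    have := ringChar.Nat.cast_ringChar (R := F)
    rw [h] at this; exact_mod_cast this)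
  obtain ⟨s, hs⟩ : IsSquare ((a' ^ 2 - 4 * b') / (a ^ 2 - 4 * b)) := by
    rw [div_eq_mul_inv, isSquare_mul_nonsquare hchar h0' (inv_ne_zero h0) (by rwa [isSquare_inv])]
    exact hd'
  rw [div_eq_iff h0] at hs
  have hs0 : s ≠ 0 := fun h => h0' (by rw [hs, h]; ring)
  let M : (Fin 2 → F) →ₗ[F] (Fin 2 → F) :=
    { toFun := fun z => ![z 0 + (a' - s * a) / 2 * z 1, s * z 1]
      map_add' := fun x y => by ext i; fin_cases i <;> simp <;> ring
      map_smul' := fun r x => by ext i; fin_cases i <;> simp <;> ring }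
  have hM : ∀ z, qBin a b (M z) = qBin a' b' z := fun z => by
    simp only [qBin_apply, M, LinearMap.coe_mk, AddHom.coe_mk, Matrix.cons_val_zero,
      Matrix.cons_val_one]
    field_simp
    linear_combination (z 1 ^ 2) * hs
  have hinj := injective_of_isometry (qBin_nondeg hab') M hM
  exact Nonempty.map QuadraticMap.IsometryEquiv.symm
    ⟨{ toLinearEquiv := LinearEquiv.ofInjectiveEndo M hinj, map_app' := hM }⟩

/-- Even-dimensional forms without the hyperbolic level count are all equivalent. -/
theorem equivalent_minus [Finite F] [FiniteDimensional F V] [FiniteDimensional F W]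
    (h2 : (2 : F) ≠ 0) {m : ℕ} {R : QuadraticForm F W} {Q : QuadraticForm F V} (hR : Nondeg R)
    (hQ : Nondeg Q) (hdR : finrank F W = 2 * m) (hdQ : finrank F V = 2 * m)
    (hlR : levelCard R 1 ≠ (Nat.card F ^ m - 1) * Nat.card F ^ (m - 1))
    (hlQ : levelCard Q 1 ≠ (Nat.card F ^ m - 1) * Nat.card F ^ (m - 1)) :
    R.Equivalent Q := by
  have key : ∀ (X : Type _) [AddCommGroup X] [Module F X] [FiniteDimensional F X]
      (P : QuadraticForm F X), finrank F X = 2 * m → P.Equivalent (qPlus m) →
      levelCard P 1 = (Nat.card F ^ m - 1) * Nat.card F ^ (m - 1) := fun X _ _ _ P _ he => by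
    rw [levelCard, card_level_congr he]
    exact levelCard_qPlus m one_ne_zero
  rcases classify R hR with ⟨k, hk, he⟩ | ⟨k, c, -, -, hk, -⟩ | ⟨k, a, b, hab, hk, he⟩
  · obtain rfl : k = m := by omega
    exact absurd (key _ R hdR he) hlR
  · omega
  rcases classify Q hQ with ⟨k', hk', he'⟩ | ⟨k', c, -, -, hk', -⟩ | ⟨k', a', b', hab', hk', he'⟩
  · obtain rfl : k' = m := by omega
    rw [levelCard, card_level_congr he'] at hlQ
    exact absurd (levelCard_qPlus k' one_ne_zero) hlQ
  · omega
  obtain rfl : k' = k := by omega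
  exact he.trans (((Equivalent.refl _).prod (qBin_equivalent h2 hab hab')).trans he'.symm)

end Cfsg.Agent.Lib.SpecNine64
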