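/-
Isometries of maximal torus type in even dimension and their spinor norms.
-/
import Cfsg.Agent.Lib.Forms.Bridge
import Cfsg.Agent.Lib.Orth52.Spinor
import Cfsg.Agent.Lib.Orth52.LeviHom

set_option autoImplicit false

namespace Cfsg.Agent.Lib.SpecNine64

open Module QuadraticMap
open Cfsg.Agent.Lib.Forms
open Cfsg.Agent.Lib.Orth52
open scoped Matrix

variable {F : Type*} [Field F] [Finite F] {V : Type*} [AddCommGroup V] [Module F V]
  [FiniteDimensional F V] [Finite V] {Q : QuadraticForm F V}

/-- No non-trivial power of `g` fixes a non-zero vector. -/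
def FreePow (g : orth Q) : Prop :=
  ∀ j, 0 < j → j < orderOf g → ∀ v, (g ^ j).1 v = v → v = 0

omit [FiniteDimensional F V] in
theorem levelSign_free (g : orth Q) (hg : FreePow g) (hL2 : 2 ≤ orderOf g) :
    orderOf g ∣ levelCard Q 1 ∧
      (Even (orderOf g) → levelSign Q 1 g = (-1) ^ (levelCard Q 1 / orderOf g)) := by
  classical
  have := Fintype.ofFinite {x // Q x = (1 : F)}
  set L := orderOf g
  set σ := levelPerm Q 1 g with hσdef
  have hL : 0 < L := orderOf_pos g
  have hmove : ∀ j, 0 < j → j < L → ∀ x, (σ ^ j) x ≠ x := by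
    intro j hj hjL x hx
    rw [hσdef, ← map_pow] at hx
    have h1 : (g ^ j).1 x.1 = x.1 := congrArg Subtype.val hx
    have h0 := x.2
    rw [hg j hj hjL _ h1, QuadraticMap.map_zero] at h0
    exact zero_ne_one h0
  have hσL : σ ^ L = 1 := by rw [hσdef, ← map_pow, pow_orderOf_eq_one, map_one]
  have hcyc : ∀ n ∈ σ.cycleType, n = L := by
    intro n hn
    obtain ⟨c, τ, hcτ, hdisj, hc, hcard⟩ := Equiv.Perm.mem_cycleType_iff.1 hn
    have hord : orderOf c = n := hc.orderOf.trans hcard
    have hle : n ≤ L := by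
      have h1 : n ∣ L := (Equiv.Perm.dvd_of_mem_cycleType hn).trans (orderOf_dvd_of_pow_eq_one hσL)
      exact Nat.le_of_dvd hL h1
    rcases hle.lt_or_eq with hlt | h
    · exfalso
      obtain ⟨x, hx⟩ := Finset.card_pos.1 (show 0 < c.support.card by
        have := hc.two_le_card_support; omega)
      refine hmove n (hord ▸ orderOf_pos c) hlt x ?_
      have hcn : c ^ n = 1 := hord ▸ pow_orderOf_eq_one c
      have hτx : τ x = x := (hdisj x).resolve_left (Equiv.Perm.mem_support.1 hx)
      rw [hcτ, hdisj.commute.mul_pow, hcn, one_mul, Equiv.Perm.pow_apply_eq_self_of_apply_eq_self hτx]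
    · exact h
  have hrep : σ.cycleType = Multiset.replicate σ.cycleType.card L :=
    Multiset.eq_replicate.2 ⟨rfl, hcyc⟩
  have hsupp : σ.support = Finset.univ := Finset.eq_univ_of_forall fun x =>
    Equiv.Perm.mem_support.2 (by
      have := hmove 1 one_pos (by omega) x
      rwa [pow_one] at this)
  have hN : levelCard Q 1 = σ.cycleType.card * L := by
    have := σ.sum_cycleType
    rw [hsupp, Finset.card_univ, hrep, Multiset.sum_replicate, smul_eq_mul] at this
    rw [levelCard, Nat.card_eq_fintype_card, ← this]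
  refine ⟨⟨_, hN.trans (mul_comm _ _)⟩, fun heven => ?_⟩
  have hs := Equiv.Perm.sign_of_cycleType_eq_replicate hL hrep
  rw [if_neg (Nat.not_odd_iff_even.2 heven), σ.card_fixedPoints, Nat.sub_sub_self σ.sum_cycleType_le,
    σ.sum_cycleType, hsupp, Finset.card_univ, ← Nat.card_eq_fintype_card] at hs
  rw [levelCard, ← hs, hσdef]
  unfold levelSign
  simp only [MonoidHom.comp_apply]
  congr!

omit [Finite F] [Finite V] in
theorem dickson_fpf (g : orth Q) (he : Even (finrank F V)) (hg : ∀ v, g.1 v = v → v = 0) :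
    dickson Q g = 0 := by
  have h := finrank_range_dev g.1
  have h0 : fixSpace g.1 = ⊥ := by
    rw [Submodule.eq_bot_iff]
    exact fun x hx => hg x (mem_fixSpace.1 hx)
  rw [h0, finrank_bot, add_zero] at h
  rw [dickson, h]
  exact ZMod.natCast_eq_zero_iff_even.2 he

theorem spinHom_of_dickson (hQ : Nondeg Q) (h2 : (2 : F) ≠ 0) (hn : 2 ≤ finrank F V) {g : orth Q}
    (hd : dickson Q g = 0) : spinHom hQ h2 hn g = levelSign Q 1 g := by
  have e : dicksonHom hQ (Or.inl (exists_ne01 h2)) g = 1 := congrArg Multiplicative.ofAdd hd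
  rw [spinHom, MonoidHom.mul_apply, MonoidHom.comp_apply, e, map_one, mul_one]

/-- A freely acting element of full torus order has spinor norm `-1`. -/
theorem spin_free (hQ : Nondeg Q) (h2 : (2 : F) ≠ 0) (hn : 2 ≤ finrank F V)
    (he : Even (finrank F V)) (g : orth Q) (hg : FreePow g) (heven : Even (orderOf g))
    (hodd : Odd (levelCard Q 1 / orderOf g)) :
    dickson Q g = 0 ∧ spinHom hQ h2 hn g = -1 := by
  have hd : dickson Q g = 0 := dickson_fpf g he fun v hv => hg 1 one_pos (by
    obtain ⟨k, hk⟩ := heven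
    have := orderOf_pos g
    omega) v (by rw [pow_one]; exact hv)
  refine ⟨hd, ?_⟩
  rw [spinHom_of_dickson hQ h2 hn hd, (levelSign_free g hg (by obtain ⟨k, hk⟩ := heven; have := orderOf_pos g; omega)).2 heven, hodd.neg_one_pow]

omit [Finite V] in
theorem odd_card (h2 : (2 : F) ≠ 0) : Odd (Nat.card F) := by
  exact odd_card_of_two_ne h2

/-- The torus of plus type. -/
theorem exists_torus_plus (h2 : (2 : F) ≠ 0) (p : ℕ) [Fact p.Prime] [CharP F p] {d : ℕ} (hd : 1 ≤ d) :
    ∃ y : orth (qPlus (F := F) d), dickson (qPlus (F := F) d) y = 0 ∧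
      spinHom (qPlus_nondeg (F := F) d) h2 (by rw [finrank_plusSpace]; omega) y = -1 ∧
      orderOf y = Nat.card F ^ d - 1 := by
  classical
  have : NeZero d := ⟨by omega⟩
  let E := FiniteField.Extension F p d
  let b : Basis (Fin d) F E := Module.finBasisOfFinrankEq F E (FiniteField.finrank_extension F p d)
  obtain ⟨c, hc⟩ := IsCyclic.exists_generator (α := Eˣ)
  let Φ : Eˣ →* orth (qPlus (F := F) d) :=
    (leviHom d).comp (Units.map (Algebra.leftMulMatrix b).toRingHom.toMonoidHom)
  have hΦ : ∀ (z : Eˣ) (v : Fin d ⊕ Fin d → F), (Φ z).1 v =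
      leviMat d (Units.map (Algebra.leftMulMatrix b).toRingHom.toMonoidHom z) *ᵥ v :=
    fun z v => leviHom_apply d _ v
  have hfix : ∀ z : Eˣ, z ≠ 1 → ∀ v, (Φ z).1 v = v → v = 0 := by
    intro z hz v hv
    rw [hΦ] at hv
    have h1 : IsUnit ((z : E) - 1) :=
      (sub_ne_zero.2 fun h => hz (Units.ext h)).isUnit
    have h1' : IsUnit (((z⁻¹ : Eˣ) : E) - 1) :=
      (sub_ne_zero.2 fun h => hz (inv_eq_one.1 (Units.ext h))).isUnit
    have hA : IsUnit (Algebra.leftMulMatrix b (z : E) - 1) := by
      rw [← map_one (Algebra.leftMulMatrix b), ← map_sub]; exact h1.map _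
    have hB : IsUnit ((Algebra.leftMulMatrix b ((z⁻¹ : Eˣ) : E))ᵀ - 1) := by
      rw [← Matrix.transpose_one, ← Matrix.transpose_sub, Matrix.isUnit_transpose,
        ← map_one (Algebra.leftMulMatrix b), ← map_sub]
      exact h1'.map _
    rw [leviMat, Matrix.fromBlocks_mulVec] at hv
    have e1 : Algebra.leftMulMatrix b (z : E) *ᵥ (v ∘ Sum.inl) = v ∘ Sum.inl := by
      have := congrArg (fun w => w ∘ Sum.inl) hv
      simpa using this
    have e2 : (Algebra.leftMulMatrix b ((z⁻¹ : Eˣ) : E))ᵀ *ᵥ (v ∘ Sum.inr) = v ∘ Sum.inr := by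
      have := congrArg (fun w => w ∘ Sum.inr) hv
      simpa using this
    have f1 : v ∘ Sum.inl = 0 := (Matrix.mulVec_injective_of_isUnit hA) (by
      show _ *ᵥ _ = _ *ᵥ 0
      rw [Matrix.sub_mulVec, Matrix.one_mulVec, e1, sub_self, Matrix.mulVec_zero])
    have f2 : v ∘ Sum.inr = 0 := (Matrix.mulVec_injective_of_isUnit hB) (by
      show _ *ᵥ _ = _ *ᵥ 0
      rw [Matrix.sub_mulVec, Matrix.one_mulVec, e2, sub_self, Matrix.mulVec_zero])
    funext k
    rcases k with k | k
    · exact congrFun f1 k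
    · exact congrFun f2 k
  have hinj : Function.Injective Φ := by
    rw [injective_iff_map_eq_one]
    intro z hz
    by_contra hne
    have : Nonempty (Fin d) := ⟨⟨0, by omega⟩⟩
    have h0 := hfix z hne (fun _ => 1) (by rw [hz]; rfl)
    exact one_ne_zero (congrFun h0 (Sum.inl ⟨0, by omega⟩))
  have hord : orderOf (Φ c) = Nat.card F ^ d - 1 := by
    rw [orderOf_injective Φ hinj, orderOf_eq_card_of_forall_mem_zpowers hc, Nat.card_units,
      FiniteField.natCard_extension]
  have hfree : FreePow (Φ c) := fun j hj hjL v hv => by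
    rw [← map_pow] at hv
    refine hfix _ ?_ v hv
    rw [orderOf_injective Φ hinj] at hjL
    exact pow_ne_one_of_lt_orderOf (by omega) hjL
  have hq := odd_card (F := F) h2
  have heven : Even (orderOf (Φ c)) := by
    rw [hord]
    exact Nat.Odd.sub_odd (hq.pow) odd_one
  have hq2 : 2 ≤ Nat.card F := Finite.one_lt_card
  have hsp := spin_free (qPlus_nondeg (F := F) d) h2 (by rw [finrank_plusSpace]; omega)
    (by rw [finrank_plusSpace]; exact even_two_mul d) (Φ c) hfree heven (by
      rw [hord, levelCard_qPlus d one_ne_zero, Nat.mul_div_cancel_left _ (by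
        have : Nat.card F ^ 1 ≤ Nat.card F ^ d := Nat.pow_le_pow_right (by omega) hd
        rw [pow_one] at this; omega)]
      exact hq.pow)
  exact ⟨Φ c, hsp.1, hsp.2, hord⟩

/-- The torus of minus type. -/
theorem exists_torus_minus (h2 : (2 : F) ≠ 0) (p : ℕ) [Fact p.Prime] [CharP F p] {d : ℕ}
    (hd : 1 ≤ d) :
    ∃ (R : QuadraticForm F (Fin (2 * d) → F)) (hR : Nondeg R) (y : orth R),
      levelCard R 1 = (Nat.card F ^ d + 1) * Nat.card F ^ (d - 1) ∧
      dickson R y = 0 ∧ spinHom hR h2 (by rw [Module.finrank_fintype_fun_eq_card, Fintype.card_fin]; omega) y = -1 ∧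
      orderOf y = Nat.card F ^ d + 1 := by
  classical
  have : NeZero (2 * d) := ⟨by omega⟩
  let E := FiniteField.Extension F p (2 * d)
  let b : Basis (Fin (2 * d)) F E :=
    Module.finBasisOfFinrankEq F E (FiniteField.finrank_extension F p (2 * d))
  set q := Nat.card F with hqdef
  have hq2 : 2 ≤ q := Finite.one_lt_card
  have hqd : q ≤ q ^ d := by
    have := Nat.pow_le_pow_right (show 0 < q by omega) hd
    rwa [pow_one] at this
  have hsq : q ^ (2 * d) = q ^ d * q ^ d := by rw [two_mul, pow_add]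
  let σ : E ≃ₐ[F] E := FiniteField.Extension.frob F p (2 * d) ^ d
  have hσ : ∀ x, σ x = x ^ q ^ d := fun x =>
    FiniteField.Extension.frob_iterate_apply F p (2 * d) d
  have hσσ : ∀ x, σ (σ x) = x := fun x => by
    rw [hσ, hσ, ← pow_mul, ← hsq]
    have := Fintype.ofFinite E
    rw [hqdef, ← FiniteField.natCard_extension F p (2 * d), ← Fintype.card_eq_nat_card,
      FiniteField.pow_card]
  let β : E →ₗ[F] E →ₗ[F] F := (Algebra.traceForm F E).compl₂ σ.toLinearMap
  let Q₀ : QuadraticForm F E := LinearMap.BilinMap.toQuadraticMap β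
  have hQ₀ : ∀ x, Q₀ x = Algebra.trace F E (x * σ x) := fun x => rfl
  have hpol : ∀ x y, polar Q₀ x y = 2 * Algebra.trace F E (x * σ y) := fun x y => by
    have hs : Algebra.trace F E (y * σ x) = Algebra.trace F E (x * σ y) := by
      rw [← Algebra.trace_eq_of_algEquiv σ (y * σ x), map_mul, hσσ, mul_comm (σ y) x]
    rw [polar, hQ₀, hQ₀, hQ₀, map_add σ, add_mul, mul_add, mul_add, map_add, map_add, map_add, hs]
    ring
  have hnd : Nondeg Q₀ := fun x hx => (traceForm_nondegenerate F E).1 x fun y => by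
    have := hx (σ y)
    rw [hpol, hσσ, mul_eq_zero, or_iff_right h2] at this
    rwa [Algebra.traceForm_apply]
  let R : QuadraticForm F (Fin (2 * d) → F) := Q₀.comp b.equivFun.symm.toLinearMap
  have hiso : ∀ z, R (b.equivFun z) = Q₀ z := fun z => by
    show Q₀ (b.equivFun.symm (b.equivFun z)) = Q₀ z
    rw [LinearEquiv.symm_apply_apply]
  let iso : Q₀.IsometryEquiv R := { toLinearEquiv := b.equivFun, map_app' := hiso }
  have hR : Nondeg R := hnd.of_equiv iso
  obtain ⟨c, hc⟩ := IsCyclic.exists_generator (α := Eˣ)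
  have hcord : orderOf c = q ^ (2 * d) - 1 := by
    rw [orderOf_eq_card_of_forall_mem_zpowers hc, Nat.card_units, FiniteField.natCard_extension]
  have hfac : q ^ (2 * d) - 1 = (q ^ d - 1) * (q ^ d + 1) := by
    rw [hsq, mul_comm (q ^ d - 1), ← one_mul 1, Nat.mul_self_sub_mul_self_eq, one_mul]
  set ζ := c ^ (q ^ d - 1)
  have hζ : orderOf ζ = q ^ d + 1 := by
    rw [orderOf_pow_of_dvd (by omega) (by rw [hcord, hfac]; exact dvd_mul_right _ _), hcord, hfac,
      Nat.mul_div_cancel_left _ (by omega)]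
  let Φ : Eˣ →* (E ≃ₗ[F] E) :=
    { toFun := fun z =>
        LinearEquiv.ofLinearMap (LinearMap.mulLeft F (z : E)) (LinearMap.mulLeft F ((z⁻¹ : Eˣ) : E))
          (LinearMap.ext fun x => by simp) (LinearMap.ext fun x => by simp)
      map_one' := LinearEquiv.ext fun x => one_mul x
      map_mul' := fun z w => LinearEquiv.ext fun x => mul_assoc _ _ _ }
  have hΦ : ∀ (z : Eˣ) (x : E), Φ z x = (z : E) * x := fun z x => rfl
  have hζQ : Φ ζ ∈ orth Q₀ := fun x => by
    rw [hQ₀, hQ₀, hΦ, map_mul σ]
    refine congrArg (Algebra.trace F E) ?_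
    have h1 : (ζ : E) * σ (ζ : E) = 1 := by
      rw [hσ, ← pow_succ', ← Units.val_pow_eq_pow_val, ← hζ, pow_orderOf_eq_one, Units.val_one]
    linear_combination (x * σ x) * h1
  let y₀ : orth Q₀ := ⟨Φ ζ, hζQ⟩
  let y : orth R := orthCongr iso y₀
  have hpow : ∀ (j : ℕ) (x : E), (y₀ ^ j).1 x = ((ζ ^ j : Eˣ) : E) * x := fun j x => by
    rw [SubmonoidClass.coe_pow, ← map_pow, hΦ]
  have hy₀ : orderOf y₀ = q ^ d + 1 := by
    rw [← hζ]
    refine orderOf_eq_orderOf_iff.2 fun j => ⟨fun h => ?_, fun h => ?_⟩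
    · have := hpow j 1
      rw [h, mul_one] at this
      exact Units.ext (by rw [← this]; rfl)
    · refine Subtype.ext (LinearEquiv.ext fun x => ?_)
      rw [hpow, h, Units.val_one, one_mul]
      rfl
  have hord : orderOf y = q ^ d + 1 := by
    exact (orderOf_injective (orthCongr iso).toMonoidHom (orthCongr iso).injective y₀).trans hy₀
  have hfree : FreePow y := fun j hj hjL v hv => by
    rw [← map_pow] at hv
    have h1 : b.equivFun ((y₀ ^ j).1 (b.equivFun.symm v)) = v := hv
    rw [← LinearEquiv.eq_symm_apply, hpow] at h1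
    by_contra hne
    refine pow_ne_one_of_lt_orderOf (x := ζ) (n := j) (by omega) (by rw [hζ, ← hord]; exact hjL) (Units.ext ?_)
    refine mul_right_cancel₀ (fun h0 => hne ?_) (h1.trans (one_mul _).symm)
    exact b.equivFun.symm.map_eq_zero_iff.1 h0
  have hq := odd_card (F := F) h2
  have heven : Even (orderOf y) := by
    rw [hord]; exact hq.pow.add_one
  have hfr : finrank F (Fin (2 * d) → F) = 2 * d := by simp
  have hlvl : levelCard R 1 = (q ^ d + 1) * q ^ (d - 1) := by
    rcases classify R hR with ⟨m, hm, he⟩ | ⟨m, c', -, -, hm, -⟩ | ⟨m, a', b', hab, hm, he⟩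
    · exfalso
      obtain rfl : m = d := by omega
      have h1 := (levelSign_free y hfree (by omega)).1
      rw [hord, levelCard, card_level_congr he] at h1
      change q ^ m + 1 ∣ levelCard (qPlus (F := F) m) 1 at h1
      rw [levelCard_qPlus m one_ne_zero, ← hqdef] at h1
      have hcop : (q ^ m + 1).Coprime (q ^ (m - 1)) := by
        refine Nat.Coprime.pow_right _ ?_
        rw [Nat.coprime_comm]
        exact ((Nat.coprime_add_mul_left_right q 1 (q ^ (m - 1))).2 (Nat.coprime_one_right q)) |> fun h => by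
          rwa [← pow_succ', Nat.sub_add_cancel (by omega), add_comm] at h
      have := Nat.le_of_dvd (by omega) (hcop.dvd_of_dvd_mul_right h1)
      omega
    · omega
    · obtain rfl : d = m + 1 := by omega
      rw [levelCard, card_level_congr (he.trans ((qMinus_equiv m a' b').symm))]
      exact levelCard_qMinus m hab one_ne_zero
  have hsp := spin_free hR h2 (by omega) (by rw [hfr]; exact even_two_mul d) y hfree heven (by
    rw [hord, hlvl, Nat.mul_div_cancel_left _ (by omega)]
    exact hq.pow)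
  exact ⟨R, hR, y, hlvl, hsp.1, hsp.2, hord⟩

end Cfsg.Agent.Lib.SpecNine64
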