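/-
Unipotent linear maps in characteristic `p` and a regular unipotent isometry in odd dimension.
-/
import Cfsg.Agent.Lib.Forms.Quad

set_option autoImplicit false
set_option maxRecDepth 4000

namespace Cfsg.Agent.Lib.SpecNine64

open Module QuadraticMap Polynomial
open Cfsg.Agent.Lib.Forms

variable {F : Type*} [Field F] (p : ℕ) [hp : Fact p.Prime] [CharP F p]

theorem X_sub_one_pow (e : ℕ) : (X - 1 : F[X]) ^ p ^ e = X ^ p ^ e - 1 := by
  rw [sub_pow_char_pow, one_pow]

theorem geom_char (e : ℕ) :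
    ∑ i ∈ Finset.range (p ^ e), (X : F[X]) ^ i = (X - 1) ^ (p ^ e - 1) := by
  have h0 : (X - 1 : F[X]) ≠ 0 := by
    rw [← C_1]; exact X_sub_C_ne_zero 1
  refine mul_right_cancel₀ h0 ?_
  rw [geom_sum_mul, ← pow_succ, Nat.sub_add_cancel (Nat.one_le_pow _ _ hp.out.pos), X_sub_one_pow]

variable {A : Type*} [Ring A] [Algebra F A]

include F in
theorem sub_one_pow_eq (a : A) (e : ℕ) : (a - 1) ^ p ^ e = a ^ p ^ e - 1 := by
  simpa using congrArg (aeval a) (X_sub_one_pow (F := F) p e)

include F in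
theorem geom_eq (a : A) (e : ℕ) :
    ∑ i ∈ Finset.range (p ^ e), a ^ i = (a - 1) ^ (p ^ e - 1) := by
  simpa [map_sum] using congrArg (aeval a) (geom_char (F := F) p e)

include F in
theorem geom_mul_eq {a : A} {e : ℕ} (ha : a ^ p ^ e = 1) (L : ℕ) :
    ∑ i ∈ Finset.range (L * p ^ e), a ^ i = L • (a - 1) ^ (p ^ e - 1) := by
  induction L with
  | zero => simp
  | succ L ih =>
    have h1 : a ^ (L * p ^ e) = 1 := by rw [mul_comm, pow_mul, ha, one_pow]
    rw [Nat.succ_mul, Finset.sum_range_add, ih, succ_nsmul, ← geom_eq (F := F) p a e]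
    simp [pow_add, h1]

section Nilpotent

variable {V : Type*} [AddCommGroup V] [Module F V] [FiniteDimensional F V] {N : Module.End F V}

omit hp [CharP F p] in
theorem pow_finrank_eq_zero (hN : IsNilpotent N) : N ^ finrank F V = 0 := by
  have h := N.aeval_self_charpoly
  rwa [hN.charpoly_eq_X_pow_finrank, aeval_X_pow] at h

omit hp [CharP F p] in
theorem pow_rank_succ_eq_zero (hN : IsNilpotent N) :
    N ^ (finrank F (LinearMap.range N) + 1) = 0 := by
  have hr : ∀ x ∈ LinearMap.range N, N x ∈ LinearMap.range N := fun x _ => ⟨x, rfl⟩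
  obtain ⟨k, hk⟩ := hN
  have hN' : IsNilpotent (N.restrict hr) := ⟨k, LinearMap.ext fun x => Subtype.ext (by
    rw [Module.End.pow_restrict _ hr, LinearMap.restrict_coe_apply, hk]
    rfl)⟩
  have h := pow_finrank_eq_zero hN'
  refine LinearMap.ext fun x => ?_
  have h1 := congrArg Subtype.val (LinearMap.congr_fun h ⟨N x, x, rfl⟩)
  rw [Module.End.pow_restrict _ hr, LinearMap.restrict_coe_apply] at h1
  rw [pow_succ]
  exact h1

end Nilpotent

/-! ### A regular unipotent isometry -/

omit hp [CharP F p] in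
theorem conj_mul_pow {E W : Type*} [CommRing E] [Algebra F E] [AddCommGroup W] [Module F W]
    (e : W ≃ₗ[F] E) (m : E ≃ₗ[F] E) (w : E) (hm : ∀ z, m z = w * z) (j : ℕ) (v : W) :
    e ((((((e.trans m).trans e.symm).toLinearMap : Module.End F W) - 1) ^ j) v) =
      (w - 1) ^ j * e v := by
  induction j generalizing v with
  | zero => simp
  | succ j ih =>
    rw [pow_succ, Module.End.mul_apply, ih, LinearMap.sub_apply, map_sub, Module.End.one_apply,
      LinearEquiv.coe_coe, LinearEquiv.trans_apply, LinearEquiv.trans_apply,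
      LinearEquiv.apply_symm_apply, hm, pow_succ, mul_assoc, sub_mul, one_mul]

omit hp [CharP F p] in
/-- In every odd dimension `n` some non-degenerate form has an isometry with a single Jordan
block. -/
theorem exists_regular (h2 : (2 : F) ≠ 0) (k : ℕ) :
    ∃ (R : QuadraticForm F (Fin (2 * k + 1) → F)), Nondeg R ∧
      ∃ u : orth R, ((u.1.toLinearMap - 1) ^ (2 * k) ≠ 0) ∧
        (u.1.toLinearMap - 1) ^ (2 * k + 1) = 0 := by
  set n := 2 * k + 1 with hn
  have hm : (X ^ n : F[X]).Monic := monic_X_pow n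
  let pb := AdjoinRoot.powerBasis' hm
  have hd : pb.dim = n := by simp [pb]
  let b : Basis (Fin n) F (AdjoinRoot (X ^ n : F[X])) := pb.basis.reindex (finCongr hd)
  set ε : AdjoinRoot (X ^ n : F[X]) := AdjoinRoot.root (X ^ n) with hεdef
  have hb : ∀ i : Fin n, b i = ε ^ (i : ℕ) := fun i => by
    simp [b, pb, hεdef]
  have hεn : ε ^ n = 0 := by
    have h := AdjoinRoot.eval₂_root (X ^ n : F[X])
    rwa [eval₂_X_pow] at h
  let lam : AdjoinRoot (X ^ n : F[X]) →ₗ[F] F := b.coord ⟨n - 1, by omega⟩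
  have hlam : ∀ j : Fin n, lam (ε ^ (j : ℕ)) = if (j : ℕ) = 2 * k then 1 else 0 := fun j => by
    rw [← hb]
    show b.repr (b j) _ = _
    rw [b.repr_self, Finsupp.single_apply]
    simp only [Fin.ext_iff]
    simp [hn]
  have hlam' : ∀ j : ℕ, lam (ε ^ j) = if j = 2 * k then 1 else 0 := fun j => by
    by_cases hj : j < n
    · exact hlam ⟨j, hj⟩
    · rw [pow_eq_zero_of_le (not_lt.1 hj) hεn, map_zero, if_neg (by omega)]
  let σ : AdjoinRoot (X ^ n : F[X]) →ₐ[F] AdjoinRoot (X ^ n : F[X]) :=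
    AdjoinRoot.liftAlgHom (X ^ n) (Algebra.ofId F (AdjoinRoot (X ^ n : F[X]))) (-ε)
      (by rw [eval₂_X_pow, neg_pow, hεn, mul_zero])
  have hσε : σ ε = -ε := by simp [σ, hεdef]
  have hσσ : ∀ z, σ (σ z) = z := by
    intro z
    have : σ.comp σ = AlgHom.id F _ := AdjoinRoot.algHom_ext (by simp [hσε, ← hεdef])
    exact AlgHom.congr_fun this z
  have hlσ : ∀ z, lam (σ z) = lam z := by
    intro z
    have : lam ∘ₗ σ.toLinearMap = lam := b.ext fun i => by
      show lam (σ (b i)) = lam (b i)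
      rw [hb, map_pow, hσε, neg_pow, ← map_one (algebraMap F (AdjoinRoot (X ^ n : F[X]))), ← map_neg,
        ← map_pow, ← Algebra.smul_def, map_smul, hlam, smul_eq_mul]
      split_ifs with hi
      · rw [hi, (even_two_mul k).neg_one_pow, one_mul]
      · rw [mul_zero]
    exact LinearMap.congr_fun this z
  let β : AdjoinRoot (X ^ n : F[X]) →ₗ[F] AdjoinRoot (X ^ n : F[X]) →ₗ[F] F :=
    ((LinearMap.mul F (AdjoinRoot (X ^ n : F[X]))).compr₂ lam).compl₂ σ.toLinearMap
  let Q₀ : QuadraticForm F (AdjoinRoot (X ^ n : F[X])) := LinearMap.BilinMap.toQuadraticMap β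
  have hQ₀ : ∀ x, Q₀ x = lam (x * σ x) := fun x => rfl
  have hpol : ∀ x y, polar Q₀ x y = 2 * lam (x * σ y) := fun x y => by
    have hs : lam (y * σ x) = lam (x * σ y) := by
      rw [← hlσ, map_mul, hσσ, mul_comm]
    rw [polar, hQ₀, hQ₀, hQ₀, map_add σ, add_mul, mul_add, mul_add, map_add, map_add, map_add, hs]
    ring
  have hnd : Nondeg Q₀ := by
    intro x hx
    refine b.ext_elem fun j => ?_
    rw [map_zero, Finsupp.zero_apply]
    have h := hx (σ (ε ^ (2 * k - (j : ℕ))))
    rw [hpol, hσσ, mul_eq_zero, or_iff_right h2] at h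
    rw [← b.sum_repr x, Finset.sum_mul, map_sum] at h
    rw [Finset.sum_eq_single j ?_ (by simp)] at h
    · rw [hb, Algebra.smul_mul_assoc, ← pow_add, map_smul, hlam', smul_eq_mul,
        if_pos (by have := j.2; omega), mul_one] at h
      exact h
    · intro i _ hij
      rw [hb, Algebra.smul_mul_assoc, ← pow_add, map_smul, hlam', smul_eq_mul, if_neg, mul_zero]
      intro h'
      have := j.2
      exact hij (Fin.ext (by omega))
  -- the multiplier of norm one
  have hu1 : IsUnit (1 - ε) := IsNilpotent.isUnit_one_sub ⟨n, hεn⟩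
  obtain ⟨c, hc⟩ := hu1.exists_right_inv
  set w := (1 + ε) * c with hw
  have hww : w * σ w = 1 := by
    have h1 : (1 + ε) * σ c = 1 := by
      have := congrArg σ hc
      rwa [map_mul, map_sub, map_one, hσε, sub_neg_eq_add] at this
    rw [hw, map_mul, map_add, map_one, hσε, ← sub_eq_add_neg]
    linear_combination ((1 + ε) * σ c) * hc + h1
  have hw1 : w - 1 = 2 * ε * c := by
    rw [hw]
    linear_combination hc
  let m₀ : AdjoinRoot (X ^ n : F[X]) ≃ₗ[F] AdjoinRoot (X ^ n : F[X]) :=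
    LinearEquiv.ofLinearMap (LinearMap.mulLeft F w) (LinearMap.mulLeft F (σ w))
      (LinearMap.ext fun z => by simp [← mul_assoc, hww])
      (LinearMap.ext fun z => by simp [← mul_assoc, mul_comm (σ w) w, hww])
  let e : (Fin n → F) ≃ₗ[F] AdjoinRoot (X ^ n : F[X]) := b.equivFun.symm
  let R : QuadraticForm F (Fin n → F) := Q₀.comp e.toLinearMap
  refine ⟨R, ?_, ⟨(e.trans m₀).trans e.symm, fun v => ?_⟩, ?_, ?_⟩
  · refine hnd.of_equiv ({ e.symm with map_app' := fun z => ?_ } : Q₀.IsometryEquiv R)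
    show Q₀ (e (e.symm z)) = Q₀ z
    rw [LinearEquiv.apply_symm_apply]
  · show Q₀ (e (e.symm (m₀ (e v)))) = Q₀ (e v)
    rw [LinearEquiv.apply_symm_apply, hQ₀, hQ₀]
    congr 1
    show w * e v * σ (w * e v) = _
    rw [map_mul]
    linear_combination (e v * σ (e v)) * hww
  · intro h
    have key := conj_mul_pow e m₀ w (fun _ => rfl)
    have h1 := key (2 * k) (e.symm 1)
    rw [h, LinearMap.zero_apply, map_zero, LinearEquiv.apply_symm_apply, mul_one, hw1, mul_pow,
      mul_pow] at h1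
    have hcu : IsUnit (c ^ (2 * k)) := IsUnit.pow _ (IsUnit.of_mul_eq_one_right (1 - ε) hc)
    have h2' : IsUnit ((2 : AdjoinRoot (X ^ n : F[X])) ^ (2 * k)) := by
      refine IsUnit.pow _ ?_
      rw [← map_ofNat (algebraMap F (AdjoinRoot (X ^ n : F[X]))) 2]
      exact (Ne.isUnit h2).map _
    have h3 := congrArg lam ((h2'.mul_right_eq_zero).1 ((hcu.mul_left_eq_zero).1 h1.symm))
    rw [hlam', if_pos rfl, map_zero] at h3
    exact one_ne_zero h3
  · refine LinearMap.ext fun v => e.injective ?_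
    have key := conj_mul_pow e m₀ w (fun _ => rfl)
    rw [key, hw1, mul_pow, mul_pow, hεn]
    simp

end Cfsg.Agent.Lib.SpecNine64
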