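/-
Element orders in `V ⋊ Ω⁻₈(q)`: lower bounds.
-/
import Cfsg.Agent.Lib.SpectrumExt.Semidirect
import Cfsg.Agent.Lib.SpecNine64.Sim
import Cfsg.Agent.Lib.SpecNine64.Unip
import Cfsg.Agent.Lib.SpecNine64.Torus

set_option autoImplicit false

namespace Cfsg.Agent.Lib.SpecNine64

open Module QuadraticMap
open Cfsg.Agent.Lib.Forms
open Cfsg.Agent.Lib.Orth52
open Cfsg.Agent.Lib.SpectrumExt

variable {F : Type*} [Field F] {V : Type*} [AddCommGroup V] [Module F V]

/-- Some element order is a multiple of the order of an element dividing it. -/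
theorem mem_range_of_dvd_order {G : Type*} [Group G] [Finite G] {x : G} {N : ℕ}
    (h : N ∣ orderOf x) : N ∈ Set.range (orderOf : G → ℕ) :=
  ⟨x ^ (orderOf x / N), by
    have hx := orderOf_pos x
    have hN : N ≠ 0 := fun h0 => by subst h0; rw [zero_dvd_iff] at h; omega
    show orderOf (x ^ (orderOf x / N)) = N
    rw [orderOf_pow_of_dvd ?_ (Nat.div_dvd_of_dvd h), Nat.div_div_self h (by omega)]
    exact (Nat.div_pos (Nat.le_of_dvd hx h) (Nat.pos_of_ne_zero hN)).ne'⟩

theorem toLM_pow (g : V ≃ₗ[F] V) (n : ℕ) :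
    ((g ^ n : V ≃ₗ[F] V).toLinearMap : Module.End F V) = g.toLinearMap ^ n := by
  induction n with
  | zero => rfl
  | succ n ih => rw [pow_succ, pow_succ, ← ih]; rfl

theorem orth_toLM_pow {Q : QuadraticForm F V} (g : orth Q) (n : ℕ) :
    ((g ^ n).1.toLinearMap : Module.End F V) = g.1.toLinearMap ^ n := by
  rw [SubmonoidClass.coe_pow, toLM_pow]

/-- An element of `p`-power exponent with the expected nilpotency index has exactly that order. -/
theorem orderOf_unip {Q : QuadraticForm F V} (p : ℕ) [hp : Fact p.Prime] [CharP F p] {u : orth Q}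
    {e : ℕ} (hu : u ^ p ^ e = 1) (hu' : (u.1.toLinearMap - 1 : Module.End F V) ^ (p ^ e - 1) ≠ 0) :
    orderOf u = p ^ e := by
  rcases e with _ | e
  · rw [pow_zero] at hu ⊢
    rw [pow_one] at hu
    rw [hu, orderOf_one]
  · refine orderOf_eq_prime_pow (fun h => hu' ?_) hu
    have h1 : (u.1.toLinearMap : Module.End F V) ^ p ^ e = 1 := by rw [← orth_toLM_pow, h]; rfl
    refine pow_eq_zero_of_le ?_ (show (u.1.toLinearMap - 1 : Module.End F V) ^ p ^ e = 0 by
      rw [sub_one_pow_eq (F := F) p, h1, sub_self])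
    have := Nat.pow_lt_pow_right hp.out.one_lt (show e < e + 1 by omega)
    omega

variable [Finite F] [FiniteDimensional F V] [Finite V]

theorem pow_odd_mem_commutator {Q : QuadraticForm F V} (hQ : Nondeg Q) (h2 : (2 : F) ≠ 0)
    (hn : 2 ≤ finrank F V) {g : orth Q} {r : ℕ} (hr : Odd r) (hg : g ^ r = 1) :
    g ∈ commutator (orth Q) := by
  obtain ⟨k, rfl⟩ := hr
  have h1 : (g * g) ^ (k + 1) = g := by
    rw [← pow_two, ← pow_mul, show 2 * (k + 1) = 2 * k + 1 + 1 by ring, pow_succ, hg, one_mul]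
  rw [← h1]
  exact pow_mem (mul_self_mem_commutator hQ hn (Or.inl (exists_ne01 h2)) g) _

/-- The action of the commutator subgroup on the natural module. -/
def rho (Q : QuadraticForm F V) : commutator (orth Q) →* AddMonoid.End V where
  toFun g := g.1.1.toLinearMap.toAddMonoidHom
  map_one' := rfl
  map_mul' _ _ := rfl

/-- `N` divides the order of an element of `V ⋊ Ω(Q)`. -/
def Good (Q : QuadraticForm F V) (N : ℕ) : Prop :=
  ∃ x : Semidirect.Ext (rho Q), N ∣ orderOf x

omit [Finite F] [FiniteDimensional F V] [Finite V] in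
theorem Good.of_dvd {Q : QuadraticForm F V} {M N : ℕ} (h : Good Q N) (hd : M ∣ N) : Good Q M :=
  ⟨h.choose, hd.trans h.choose_spec⟩

variable {Q : QuadraticForm F V}

omit [Finite F] [FiniteDimensional F V] in
theorem good_of_mem {g : orth Q} (hg : g ∈ commutator (orth Q)) {N : ℕ} (hN : N ∣ orderOf g) :
    Good Q N := by
  refine ⟨SemidirectProduct.inr ⟨g, hg⟩, ?_⟩
  rw [orderOf_injective _ SemidirectProduct.inr_injective, ← Subgroup.orderOf_coe]
  exact hN

/-- A commutator element together with a unipotent Jordan block in an orthogonal space gives the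
next power of `p`. -/
theorem good_affine (hQ : Nondeg Q) (h2 : (2 : F) ≠ 0) (hn : 2 ≤ finrank F V) (p : ℕ)
    [hp : Fact p.Prime] [CharP F p] {W U : Type*} [AddCommGroup W] [Module F W] [AddCommGroup U]
    [Module F U] [FiniteDimensional F W] [FiniteDimensional F U] {R : QuadraticForm F W}
    {P : QuadraticForm F U} (hR : Nondeg R) (hP : Nondeg P) (i : Sim (R.prod P) Q) {h : orth R}
    (hh : h ∈ commutator (orth R)) {u : orth P} {e : ℕ} (hu : u ^ p ^ e = 1)
    (hu' : (u.1.toLinearMap - 1 : Module.End F U) ^ (p ^ e - 1) ≠ 0) :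
    Good Q (Nat.lcm (orderOf h) (p ^ (e + 1))) := by
  have hRP := prod_nondeg hR hP
  set g := i.ext hRP (both hR hP h u) with hgdef
  have hpodd : Odd (p ^ e) := (hp.out.odd_of_ne_two fun hh2 => h2 (by
    have := CharP.cast_eq_zero F p
    rw [hh2] at this
    exact_mod_cast this)).pow
  have hg : g ∈ commutator (orth Q) := by
    rw [hgdef, both, map_mul]
    refine mul_mem (i.ext_mem_commutator hRP ((Sim.inl R P).ext_mem_commutator hR hh))
      (pow_odd_mem_commutator hQ h2 hn hpodd ?_)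
    rw [← map_pow, ← map_pow, hu, map_one, map_one]
  set M := orderOf g with hMdef
  have hM : M = orderOf (both hR hP h u) := orderOf_injective _ (i.ext_injective hRP) _
  obtain ⟨hd1, hd2⟩ := both_dvd hR hP h u
  rw [← hM] at hd1 hd2
  rw [orderOf_unip p hu hu'] at hd2
  by_cases hbig : p ^ (e + 1) ∣ M
  · exact good_of_mem hg (Nat.lcm_dvd hd1 hbig)
  obtain ⟨L, hL⟩ := hd2
  have hpL : ¬ p ∣ L := fun hdv => hbig (by
    rw [hL, pow_succ]; exact Nat.mul_dvd_mul_left _ hdv)
  obtain ⟨y, hy⟩ : ∃ y : U, ((u.1.toLinearMap - 1 : Module.End F U) ^ (p ^ e - 1)) y ≠ 0 := by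
    by_contra hc
    push Not at hc
    exact hu' (LinearMap.ext hc)
  have hpow : ∀ n : ℕ, (g ^ n).1 (i.f (0, y)) = i.f (0, ((u ^ n).1 y)) := fun n => by
    rw [hgdef, ← map_pow, both_pow, i.ext_f hRP, both_apply, map_zero]
  set x : commutator (orth Q) := ⟨g, hg⟩
  have hxM : orderOf x = M := (Subgroup.orderOf_coe x).symm
  have hnorm : Semidirect.norm (rho Q) x (orderOf x) (i.f (0, y)) ≠ 0 := by
    have hsum : Semidirect.norm (rho Q) x (orderOf x) (i.f (0, y)) =
        i.f (0, (∑ j ∈ Finset.range (L * p ^ e), (u.1.toLinearMap : Module.End F U) ^ j) y) := by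
      rw [hxM, hL, mul_comm (p ^ e) L, Semidirect.norm, LinearMap.sum_apply]
      have : ∀ j, rho Q (x ^ j) (i.f (0, y)) = i.f (0, ((u.1.toLinearMap : Module.End F U) ^ j) y) :=
        fun j => by
          show ((x ^ j : commutator (orth Q)) : orth Q).1 (i.f (0, y)) = _
          rw [SubmonoidClass.coe_pow, hpow, ← orth_toLM_pow]
          rfl
      simp only [this]
      rw [← map_sum i.f]
      congr 1
      exact (map_sum (LinearMap.inr F W U) _ _).symm
    rw [hsum, geom_mul_eq (F := F) p (by rw [← orth_toLM_pow, hu]; rfl)]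
    intro h0
    rw [← map_zero i.f] at h0
    have h1 := congrArg Prod.snd (i.injective hRP h0)
    simp only [LinearMap.smul_apply, Prod.snd_zero] at h1
    rw [← Nat.cast_smul_eq_nsmul F, smul_eq_zero] at h1
    rcases h1 with h1 | h1
    · exact hpL ((CharP.cast_eq_zero_iff F p L).1 h1)
    · exact hy h1
  have hA : ∀ a : V, p • a = 0 := fun a => by
    rw [← Nat.cast_smul_eq_nsmul F, CharP.cast_eq_zero, zero_smul]
  refine ⟨⟨Multiplicative.ofAdd (i.f (0, y)), x⟩, ?_⟩
  rw [(Semidirect.orderOf_mk (rho Q) hp.out hA (i.f (0, y)) x).2 hnorm, hxM]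
  exact Nat.lcm_dvd (hd1.mul_right p) (by
    rw [hL, pow_succ, mul_right_comm]
    exact dvd_mul_right _ _)

/-! ### The list -/

theorem mem_commutator_pair {W U : Type*} [AddCommGroup W] [Module F W] [AddCommGroup U]
    [Module F U] [FiniteDimensional F W] [FiniteDimensional F U] [Finite W] [Finite U]
    (h2 : (2 : F) ≠ 0) {R : QuadraticForm F W} {P : QuadraticForm F U} (hR : Nondeg R)
    (hP : Nondeg P) (hnW : 2 ≤ finrank F W) (hnU : 2 ≤ finrank F U) {h : orth R} {k : orth P}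
    (hd : dickson R h = 0) (hd' : dickson P k = 0) (hs : spinHom hR h2 hnW h = -1)
    (hs' : spinHom hP h2 hnU k = -1) : both hR hP h k ∈ commutator (orth (R.prod P)) := by
  have hn : 2 ≤ finrank F (W × U) := by rw [finrank_prod]; omega
  have hRP := prod_nondeg hR hP
  rw [mem_commutator_iff_spin hRP h2 hn, both, dickson_mul hRP (Or.inl (exists_ne01 h2)), map_mul,
    (Sim.inl R P).dickson_ext hR hRP rfl h2, (Sim.inr R P).dickson_ext hP hRP rfl h2,
    (Sim.inl R P).spinHom_ext hR hRP rfl h2 hnW hn, (Sim.inr R P).spinHom_ext hP hRP rfl h2 hnU hn,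
    hd, hd', hs, hs']
  decide

/-- The standard facts about the ambient space. -/
structure MinusEight (Q : QuadraticForm F V) : Prop where
  nd : Nondeg Q
  dim : finrank F V = 8
  lvl : levelCard Q 1 ≠ (Nat.card F ^ 4 - 1) * Nat.card F ^ 3

section List

variable (hM : MinusEight Q) (h2 : (2 : F) ≠ 0) (p : ℕ) [hp : Fact p.Prime] [CharP F p]
include hM h2

include p in
theorem good_pair {d d' : ℕ} (hd : 1 ≤ d) (hd' : 1 ≤ d') (hsum : d + d' = 4) :
    Good Q (Nat.lcm (Nat.card F ^ d - 1) (Nat.card F ^ d' + 1)) := by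
  obtain ⟨y, hyd, hys, hyo⟩ := exists_torus_plus h2 p hd
  obtain ⟨R, hR, z, hlv, hzd, hzs, hzo⟩ := exists_torus_minus h2 p hd'
  have hP := qPlus_nondeg (F := F) d
  have hh := mem_commutator_pair h2 hP hR _ _ hyd hzd hys hzs
  have hdim : finrank F ((Fin d ⊕ Fin d → F) × (Fin (2 * d') → F)) = 2 * 4 := by
    rw [finrank_prod, finrank_plusSpace, Module.finrank_fintype_fun_eq_card, Fintype.card_fin]
    omega
  have hl : levelCard ((qPlus (F := F) d).prod R) 1 ≠ (Nat.card F ^ 4 - 1) * Nat.card F ^ (4 - 1) := by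
    rw [levelCard_plus_prod, hlv, Module.finrank_fintype_fun_eq_card, Fintype.card_fin]
    set q := Nat.card F
    have hq : 2 ≤ q := Finite.one_lt_card
    have h4 : 1 ≤ q ^ 4 := Nat.one_le_pow _ _ (by omega)
    have h1 : 1 ≤ q ^ d := Nat.one_le_pow _ _ (by omega)
    have e : q ^ d * ((q ^ d' + 1) * q ^ (d' - 1)) + (q ^ d - 1) * q ^ (d + 2 * d' - 1) =
        q ^ 7 + q ^ 3 := by
      obtain ⟨a, rfl⟩ : ∃ a, d' = a + 1 := ⟨d' - 1, by omega⟩
      rw [show d + 2 * (a + 1) - 1 = d + 2 * a + 1 by omega, Nat.add_sub_cancel,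
        show 7 = d + (d + (2 * a + 1)) by omega, show 3 = d + a by omega]
      zify [h1]
      ring
    rw [e]
    intro h
    have h3 : (q ^ 4 - 1) * q ^ (4 - 1) ≤ q ^ 7 := by
      rw [show 7 = 4 + 3 by rfl, pow_add]; exact Nat.mul_le_mul_right _ (Nat.sub_le _ _)
    have : 0 < q ^ 3 := by positivity
    omega
  obtain ⟨iso⟩ := equivalent_minus h2 (prod_nondeg hP hR) hM.nd hdim (by rw [hM.dim]) hl
    (by simpa using hM.lvl)
  have hi : Function.Injective ((Sim.ofEquiv iso).ext (prod_nondeg hP hR)) := Sim.ext_injective _ _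
  refine good_of_mem ((Sim.ofEquiv iso).ext_mem_commutator (prod_nondeg hP hR) hh) ?_
  rw [orderOf_injective _ hi]
  obtain ⟨e1, e2⟩ := both_dvd hP hR y z
  rw [hyo] at e1
  rw [hzo] at e2
  exact Nat.lcm_dvd e1 e2

theorem good_small {W : Type*} [AddCommGroup W] [Module F W] [FiniteDimensional F W]
    {R : QuadraticForm F W} (hR : Nondeg R) {h : orth R} (hh : h ∈ commutator (orth R)) (e k : ℕ)
    (hk : 2 * k + 1 = p ^ e) (hlt : finrank F W + (2 * k + 1) < 8) :
    Good Q (Nat.lcm (orderOf h) (p ^ (e + 1))) := by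
  obtain ⟨P, hP, u, hu, hu'⟩ := exists_regular (F := F) h2 k
  obtain ⟨i, -⟩ := exists_embed h2 (prod_nondeg hR hP) hM.nd (by
    rw [hM.dim, finrank_prod, Module.finrank_fintype_fun_eq_card, Fintype.card_fin]; exact hlt)
  refine good_affine hM.nd h2 (by rw [hM.dim]; omega) p hR hP i hh (u := u) ?_ ?_
  · apply Subtype.ext
    apply LinearEquiv.toLinearMap_injective
    rw [orth_toLM_pow, ← sub_eq_zero]
    show _ - (1 : Module.End F _) = 0
    rw [← sub_one_pow_eq (F := F) p, ← hk, hu']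
  · rw [← hk, Nat.add_sub_cancel]; exact hu

theorem good_mixed_plus : Good Q (Nat.lcm (Nat.lcm (Nat.card F ^ 2 + 1) (Nat.card F - 1)) p) := by
  obtain ⟨y, hyd, hys, hyo⟩ := exists_torus_plus h2 p (d := 1) le_rfl
  obtain ⟨R, hR, z, -, hzd, hzs, hzo⟩ := exists_torus_minus h2 p (d := 2) (by omega)
  have hP := qPlus_nondeg (F := F) 1
  have hh := mem_commutator_pair h2 hP hR _ _ hyd hzd hys hzs
  have := good_small hM h2 p (prod_nondeg hP hR) hh 0 0 (by simp) (by
    rw [finrank_prod, finrank_plusSpace, Module.finrank_fintype_fun_eq_card, Fintype.card_fin]; omega)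
  obtain ⟨e1, e2⟩ := both_dvd hP hR y z
  rw [hyo, pow_one] at e1
  rw [hzo] at e2
  exact this.of_dvd (Nat.lcm_dvd ((Nat.lcm_dvd e2 e1).trans (Nat.dvd_lcm_left _ _))
    (by simp only [zero_add, pow_one]; exact Nat.dvd_lcm_right _ _))

theorem good_mixed_minus : Good Q (Nat.lcm (Nat.lcm (Nat.card F ^ 2 + 1) (Nat.card F + 1)) p) := by
  obtain ⟨P, hP, y, -, hyd, hys, hyo⟩ := exists_torus_minus h2 p (d := 1) le_rfl
  obtain ⟨R, hR, z, -, hzd, hzs, hzo⟩ := exists_torus_minus h2 p (d := 2) (by omega)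
  have hh := mem_commutator_pair h2 hP hR _ _ hyd hzd hys hzs
  have := good_small hM h2 p (prod_nondeg hP hR) hh 0 0 (by simp) (by
    simp [finrank_prod])
  obtain ⟨e1, e2⟩ := both_dvd hP hR y z
  rw [hyo, pow_one] at e1
  rw [hzo] at e2
  exact this.of_dvd (Nat.lcm_dvd ((Nat.lcm_dvd e2 e1).trans (Nat.dvd_lcm_left _ _))
    (by simp only [zero_add, pow_one]; exact Nat.dvd_lcm_right _ _))

theorem good_quad : Good Q (Nat.lcm (Nat.card F ^ 2 - 1) p) := by
  obtain ⟨y, hyd, hys, hyo⟩ := exists_torus_plus h2 p (d := 1) le_rfl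
  obtain ⟨z, hzd, hzs, hzo⟩ := exists_torus_plus h2 p (d := 2) (by omega)
  have hP := qPlus_nondeg (F := F) 1
  have hR := qPlus_nondeg (F := F) 2
  have hh := mem_commutator_pair h2 hP hR _ _ hyd hzd hys hzs
  have := good_small hM h2 p (prod_nondeg hP hR) hh 0 0 (by simp) (by
    rw [finrank_prod, finrank_plusSpace, finrank_plusSpace]; omega)
  obtain ⟨e1, e2⟩ := both_dvd hP hR y z
  rw [hzo] at e2
  exact this.of_dvd (Nat.lcm_dvd (e2.trans (Nat.dvd_lcm_left _ _))
    (by simp only [zero_add, pow_one]; exact Nat.dvd_lcm_right _ _))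

theorem good_nine (h3 : p = 3) :
    Good Q (Nat.lcm (Nat.card F - 1) 9) ∧ Good Q (Nat.lcm (Nat.card F + 1) 9) := by
  subst h3
  constructor
  · obtain ⟨y, hyd, hys, hyo⟩ := exists_torus_plus h2 3 (d := 1) le_rfl
    have hP := qPlus_nondeg (F := F) 1
    have hh := mem_commutator_pair h2 hP hP _ _ hyd hyd hys hys
    have := good_small hM h2 3 (prod_nondeg hP hP) hh 1 1 rfl (by
      rw [finrank_prod, finrank_plusSpace]; omega)
    obtain ⟨e1, -⟩ := both_dvd hP hP y y
    rw [hyo, pow_one] at e1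
    exact this.of_dvd (Nat.lcm_dvd (e1.trans (Nat.dvd_lcm_left _ _)) (Nat.dvd_lcm_right _ _))
  · obtain ⟨P, hP, y, -, hyd, hys, hyo⟩ := exists_torus_minus h2 3 (d := 1) le_rfl
    have hh := mem_commutator_pair h2 hP hP _ _ hyd hyd hys hys
    have := good_small hM h2 3 (prod_nondeg hP hP) hh 1 1 rfl (by
      simp [finrank_prod])
    obtain ⟨e1, -⟩ := both_dvd hP hP y y
    rw [hyo, pow_one] at e1
    exact this.of_dvd (Nat.lcm_dvd (e1.trans (Nat.dvd_lcm_left _ _)) (Nat.dvd_lcm_right _ _))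

theorem good_fifty (h5 : p = 5) : Good Q (Nat.lcm 2 25) := by
  subst h5
  have hq : Odd (Nat.card F) := odd_card h2
  rw [Nat.odd_iff] at hq
  rcases (show Nat.card F % 4 = 1 ∨ Nat.card F % 4 = 3 by omega) with h4 | h4
  · obtain ⟨y, -, -, hyo⟩ := exists_torus_plus h2 5 (d := 1) le_rfl
    have hP := qPlus_nondeg (F := F) 1
    have hh := mul_self_mem_commutator hP (by rw [finrank_plusSpace]) (Or.inl (exists_ne01 h2)) y
    have := good_small hM h2 5 hP hh 1 2 rfl (by rw [finrank_plusSpace]; omega)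
    refine this.of_dvd (Nat.lcm_dvd (Dvd.dvd.trans ?_ (Nat.dvd_lcm_left _ _)) (Nat.dvd_lcm_right _ _))
    rw [← pow_two, orderOf_pow, hyo, pow_one, Nat.gcd_eq_right (by omega)]
    omega
  · obtain ⟨P, hP, y, -, -, -, hyo⟩ := exists_torus_minus h2 5 (d := 1) le_rfl
    have hh := mul_self_mem_commutator hP (by simp) (Or.inl (exists_ne01 h2)) y
    have := good_small hM h2 5 hP hh 1 2 rfl (by simp)
    refine this.of_dvd (Nat.lcm_dvd (Dvd.dvd.trans ?_ (Nat.dvd_lcm_left _ _)) (Nat.dvd_lcm_right _ _))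
    rw [← pow_two, orderOf_pow, hyo, pow_one, Nat.gcd_eq_right (by omega)]
    omega

end List

end Cfsg.Agent.Lib.SpecNine64
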