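/-
Splitting a group element into commuting parts of coprime and of prime-power order.
-/
import Mathlib

set_option autoImplicit false

namespace Cfsg.Agent.Lib.SpecNine64

/-- The decomposition of an element along a prime `p`. -/
structure PartsData {G : Type*} [Group G] (p : ℕ) (g : G) where
  L : ℕ
  e : ℕ
  a : ℕ
  b : ℕ
  not_dvd : ¬ p ∣ L
  ord : orderOf g = L * p ^ e
  eq : g = g ^ a * g ^ b
  ord_s : orderOf (g ^ a) = L
  ord_u : orderOf (g ^ b) = p ^ e

/-- Existence of the decomposition. -/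
theorem exists_parts {G : Type*} [Group G] [Finite G] (p : ℕ) [hp : Fact p.Prime] (g : G) :
    Nonempty (PartsData p g) := by
  obtain ⟨e, L, hL, hM⟩ := Nat.exists_eq_pow_mul_and_not_dvd (orderOf_pos g).ne' p hp.out.ne_one
  have hco : L.Coprime (p ^ e) := ((hp.out.coprime_iff_not_dvd.2 hL).symm).pow_right _
  obtain ⟨a, ha1, ha2⟩ := Nat.chineseRemainder hco 1 0
  obtain ⟨b, hb1, hb2⟩ := Nat.chineseRemainder hco 0 1
  rw [mul_comm] at hM
  have hord : ∀ (X Y c : ℕ), orderOf g = X * Y → X.Coprime Y → c ≡ 1 [MOD X] → c ≡ 0 [MOD Y] →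
      orderOf (g ^ c) = X := by
    intro X Y c hXY hXc h1 h0
    refine Nat.dvd_antisymm (orderOf_dvd_of_pow_eq_one ?_) ?_
    · rw [← pow_mul, ← orderOf_dvd_iff_pow_eq_one, hXY, mul_comm c X]
      exact Nat.mul_dvd_mul_left _ (Nat.modEq_zero_iff_dvd.1 h0)
    · have h := pow_orderOf_eq_one (g ^ c)
      rw [← pow_mul, ← orderOf_dvd_iff_pow_eq_one, hXY] at h
      refine Nat.Coprime.dvd_of_dvd_mul_left ?_ (dvd_trans (dvd_mul_right X Y) h)
      rw [Nat.coprime_comm, Nat.Coprime, h1.gcd_eq, Nat.gcd_one_left]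
  refine ⟨{ L := L, e := e, a := a, b := b, not_dvd := hL, ord := hM, eq := ?_,
            ord_s := hord L _ a hM hco ha1 ha2,
            ord_u := hord _ L b (hM.trans (mul_comm _ _)) hco.symm hb2 hb1 }⟩
  rw [← pow_add]
  conv_lhs => rw [← pow_one g]
  rw [pow_eq_pow_iff_modEq, hM, ← Nat.modEq_and_modEq_iff_modEq_mul hco]
  exact ⟨(by simpa using (ha1.add hb1).symm), (by simpa using (ha2.add hb2).symm)⟩

namespace PartsData

variable {G : Type*} [Group G] {p : ℕ} {g : G} (P : PartsData p g)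

/-- The part of order prime to `p`. -/
def s : G := g ^ P.a

/-- The part of `p`-power order. -/
def u : G := g ^ P.b

theorem mul_eq : P.s * P.u = g := P.eq.symm

theorem comm : Commute P.s P.u := Commute.pow_pow_self g _ _

theorem orderOf_s : orderOf P.s = P.L := P.ord_s

theorem orderOf_u : orderOf P.u = p ^ P.e := P.ord_u

theorem s_pow : P.s ^ P.L = 1 := P.orderOf_s ▸ pow_orderOf_eq_one P.s

theorem u_pow : P.u ^ p ^ P.e = 1 := P.orderOf_u ▸ pow_orderOf_eq_one P.u

theorem L_pos [Finite G] : 0 < P.L := P.orderOf_s ▸ orderOf_pos P.s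

end PartsData

end Cfsg.Agent.Lib.SpecNine64
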