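/-
The decomposition of the space along the fixed space of the semisimple part.
-/
import Cfsg.Agent.Lib.SpecNine64.Sim
import Cfsg.Agent.Lib.SpecNine64.Unip
import Cfsg.Agent.Lib.SpecNine64.Good
import Cfsg.Agent.Lib.SpecNine64.Split

set_option autoImplicit false
set_option linter.unusedSectionVars false

namespace Cfsg.Agent.Lib.SpecNine64

open Module QuadraticMap
open Cfsg.Agent.Lib.Forms
open Cfsg.Agent.Lib.Orth52

variable {F : Type*} [Field F] {V : Type*} [AddCommGroup V] [Module F V] [FiniteDimensional F V]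
variable {Q : QuadraticForm F V}

/-- Restriction of an isometry to an invariant subspace. -/
noncomputable def restr (g : orth Q) (W : Submodule F V) (h : ∀ v ∈ W, g.1 v ∈ W) : orth (res Q W) :=
  ⟨LinearEquiv.ofInjectiveEndo (LinearMap.restrict (g.1.toLinearMap : Module.End F V) h)
    (fun _ _ hab => Subtype.ext (g.1.injective (congrArg Subtype.val hab))), fun v => g.2 _⟩

theorem restr_apply (g : orth Q) (W : Submodule F V) (h : ∀ v ∈ W, g.1 v ∈ W) (v : W) :
    (((restr g W h).1 v : W) : V) = g.1 v := rfl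

theorem restr_pow_apply (g : orth Q) (W : Submodule F V) (h : ∀ v ∈ W, g.1 v ∈ W) (n : ℕ) (v : W) :
    ((((restr g W h) ^ n).1 v : W) : V) = (g ^ n).1 v := by
  induction n generalizing v with
  | zero => rfl
  | succ n ih =>
    rw [pow_succ', pow_succ']
    show g.1 ((((restr g W h) ^ n).1 v : W) : V) = g.1 ((g ^ n).1 v)
    rw [ih]

/-- An orthogonal decomposition into two invariant subspaces. -/
structure Decomp (Q : QuadraticForm F V) (g : orth Q) where
  V₁ : Submodule F V
  W : Submodule F V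
  sup : V₁ ⊔ W = ⊤
  perp : ∀ x ∈ V₁, ∀ y ∈ W, polar Q x y = 0
  inv₁ : ∀ v ∈ V₁, g.1 v ∈ V₁
  invW : ∀ v ∈ W, g.1 v ∈ W
  dim : finrank F V₁ + finrank F W = finrank F V

namespace Decomp

variable {g : orth Q} (D : Decomp Q g)

/-- The component on `W`. -/
noncomputable def h : orth (res Q D.W) := restr g D.W D.invW

/-- The component on `V₁`. -/
noncomputable def k : orth (res Q D.V₁) := restr g D.V₁ D.inv₁

theorem nondeg_W (hQ : Nondeg Q) : Nondeg (res Q D.W) := by
  intro x hx
  refine Subtype.ext (hQ _ fun v => ?_)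
  obtain ⟨a, ha, b, hb, rfl⟩ := Submodule.mem_sup.1 (D.sup ▸ Submodule.mem_top : v ∈ D.V₁ ⊔ D.W)
  rw [polar_add_right, polar_comm Q (x : V) a, D.perp a ha x x.2, zero_add]
  exact hx ⟨b, hb⟩

theorem nondeg_V₁ (hQ : Nondeg Q) : Nondeg (res Q D.V₁) := by
  intro x hx
  refine Subtype.ext (hQ _ fun v => ?_)
  obtain ⟨a, ha, b, hb, rfl⟩ := Submodule.mem_sup.1 (D.sup ▸ Submodule.mem_top : v ∈ D.V₁ ⊔ D.W)
  rw [polar_add_right, D.perp x x.2 b hb, add_zero]
  exact hx ⟨a, ha⟩

theorem ext_eq (hQ : Nondeg Q) :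
    (Sim.sub Q D.W).ext (D.nondeg_W hQ) D.h * (Sim.sub Q D.V₁).ext (D.nondeg_V₁ hQ) D.k = g := by
  refine Subtype.ext (LinearEquiv.ext fun v => ?_)
  obtain ⟨a, ha, b, hb, rfl⟩ := Submodule.mem_sup.1 (D.sup ▸ Submodule.mem_top : v ∈ D.V₁ ⊔ D.W)
  show ((Sim.sub Q D.W).ext (D.nondeg_W hQ) D.h).1
      (((Sim.sub Q D.V₁).ext (D.nondeg_V₁ hQ) D.k).1 (a + b)) = g.1 (a + b)
  rw [(Sim.sub Q D.V₁).ext_apply_of _ D.k (v := a + b) (x := ⟨a, ha⟩) (z := b) rfl
      (fun y => D.perp y y.2 b hb)]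
  have e : (Sim.sub Q D.V₁).f (D.k.1 ⟨a, ha⟩) = g.1 a := restr_apply g D.V₁ D.inv₁ ⟨a, ha⟩
  rw [e, (Sim.sub Q D.W).ext_apply_of _ D.h (v := g.1 a + b) (x := ⟨b, hb⟩) (z := g.1 a)
      (add_comm _ _) (fun y => (polar_comm Q _ _).trans (D.perp _ (D.inv₁ a ha) y y.2)),
    map_add, add_comm]
  exact congrArg (fun z => g.1 a + z) (restr_apply g D.W D.invW ⟨b, hb⟩)

theorem pow_eq_one {n : ℕ} (h1 : D.h ^ n = 1) (h2 : D.k ^ n = 1) : g ^ n = 1 := by
  refine Subtype.ext (LinearEquiv.ext fun v => ?_)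
  obtain ⟨a, ha, b, hb, rfl⟩ := Submodule.mem_sup.1 (D.sup ▸ Submodule.mem_top : v ∈ D.V₁ ⊔ D.W)
  have e1 : (g ^ n).1 a = a := by
    have := restr_pow_apply g D.V₁ D.inv₁ n ⟨a, ha⟩
    rw [show restr g D.V₁ D.inv₁ ^ n = 1 from h2] at this
    exact this.symm
  have e2 : (g ^ n).1 b = b := by
    have := restr_pow_apply g D.W D.invW n ⟨b, hb⟩
    rw [show restr g D.W D.invW ^ n = 1 from h1] at this
    exact this.symm
  show (g ^ n).1 (a + b) = a + b
  rw [map_add, e1, e2]

theorem orderOf_dvd_lcm : orderOf g ∣ Nat.lcm (orderOf D.h) (orderOf D.k) :=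
  orderOf_dvd_of_pow_eq_one (D.pow_eq_one (orderOf_dvd_iff_pow_eq_one.1 (Nat.dvd_lcm_left _ _))
    (orderOf_dvd_iff_pow_eq_one.1 (Nat.dvd_lcm_right _ _)))

variable [Finite F] [Finite V]

theorem h_mem_commutator (hQ : Nondeg Q) (h2 : (2 : F) ≠ 0) (hn : 2 ≤ finrank F V)
    (hg : g ∈ commutator (orth Q)) {r : ℕ} (hr : Odd r) (hk : D.k ^ r = 1) :
    D.h ∈ commutator (orth (res Q D.W)) := by
  rcases Nat.lt_or_ge (finrank F D.W) 2 with hW | hW
  · rcases (show finrank F D.W = 0 ∨ finrank F D.W = 1 by omega) with h0 | h0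
    · have : Subsingleton D.W := finrank_zero_iff.1 h0
      have : D.h = 1 := Subtype.ext (LinearEquiv.ext fun v => Subsingleton.elim _ _)
      rw [this]; exact one_mem _
    · have hd := (mem_commutator_iff_spin hQ h2 hn g).1 hg
      have e : Forms.dickson Q g = Forms.dickson (res Q D.W) D.h + Forms.dickson (res Q D.V₁) D.k := by
        conv_lhs => rw [← D.ext_eq hQ]
        rw [dickson_mul hQ (Or.inl (exists_ne01 h2)),
          (Sim.sub Q D.W).dickson_ext (D.nondeg_W hQ) hQ rfl h2,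
          (Sim.sub Q D.V₁).dickson_ext (D.nondeg_V₁ hQ) hQ rfl h2]
      have hk0 : Forms.dickson (res Q D.V₁) D.k = 0 := by
        have hpw : ∀ n : ℕ, Forms.dickson (res Q D.V₁) (D.k ^ n) = n • Forms.dickson (res Q D.V₁) D.k := by
          intro n
          induction n with
          | zero => rw [pow_zero, zero_smul, Forms.dickson_one]
          | succ n ih =>
            rw [pow_succ, dickson_mul (D.nondeg_V₁ hQ) (Or.inl (exists_ne01 h2)), ih, succ_nsmul]
        have h' := hpw r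
        obtain ⟨c, rfl⟩ := hr
        rw [hk, Forms.dickson_one, succ_nsmul, mul_nsmul, CharTwo.two_nsmul, smul_zero, zero_add] at h'
        exact h'.symm
      rw [hd.1, hk0, add_zero] at e
      have hfull : dev D.h.1 = 0 := by
        have hr1 := (LinearMap.range (dev D.h.1)).finrank_le
        have he := e.symm
        rw [Forms.dickson, ZMod.natCast_eq_zero_iff_even] at he
        obtain ⟨c, hc⟩ := he
        have hz : finrank F (LinearMap.range (dev D.h.1)) = 0 := by omega
        exact LinearMap.range_eq_bot.1 (Submodule.finrank_eq_zero.1 hz)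
      have : D.h = 1 := Subtype.ext (LinearEquiv.ext fun v => by
        have := LinearMap.congr_fun hfull v
        rwa [dev_apply, LinearMap.zero_apply, sub_eq_zero] at this)
      rw [this]; exact one_mem _
  · rw [← (Sim.sub Q D.W).ext_mem_commutator_iff (D.nondeg_W hQ) hQ rfl h2 hW]
    have hk' : (Sim.sub Q D.V₁).ext (D.nondeg_V₁ hQ) D.k ∈ commutator (orth Q) :=
      pow_odd_mem_commutator hQ h2 hn hr (by rw [← map_pow, hk, map_one])
    refine (Subgroup.mul_mem_cancel_right _ hk').1 ?_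
    rw [D.ext_eq hQ]
    exact hg

end Decomp

section FromParts

variable {p : ℕ} [hp : Fact p.Prime] [CharP F p] [Finite V] {g : orth Q} (P : PartsData p g)

/-- The decomposition given by the fixed space of the semisimple part. -/
theorem exists_decomp_parts :
    ∃ D : Decomp Q g, D.V₁ = fixSpace P.s.1 ∧ D.W = LinearMap.range (dev P.s.1) ∧
      D.k ^ p ^ P.e = 1 ∧ (∀ v ∈ D.W, P.s.1 v = v → v = 0) := by
  have hcomm : ∀ v, P.s.1 (g.1 v) = g.1 (P.s.1 v) := fun v =>
    congrArg (fun o : orth Q => o.1 v) (Commute.pow_self g P.a).eq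
  have hinj : ∀ v ∈ LinearMap.range (dev P.s.1), P.s.1 v = v → v = 0 := by
    rintro _ ⟨y, rfl⟩ hx
    set x := dev P.s.1 y with hxdef
    have hn : ∀ n : ℕ, (P.s ^ n).1 y = y + n • x := by
      intro n
      induction n with
      | zero => simp
      | succ n ih =>
        rw [pow_succ']
        show P.s.1 ((P.s ^ n).1 y) = _
        rw [ih, map_add, map_nsmul, hx, succ_nsmul', ← add_assoc, hxdef, dev_apply, add_sub_cancel]
    have h1 := hn P.L
    rw [P.s_pow] at h1
    have h2 : (P.L : F) • x = 0 := by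
      rw [Nat.cast_smul_eq_nsmul]
      exact left_eq_add.1 (show y = y + P.L • x from h1)
    exact (smul_eq_zero.1 h2).resolve_left fun h => P.not_dvd ((CharP.cast_eq_zero_iff F p _).1 h)
  have hdim := finrank_range_dev P.s.1
  have hdisj : fixSpace P.s.1 ⊓ LinearMap.range (dev P.s.1) = ⊥ := by
    rw [Submodule.eq_bot_iff]
    rintro x ⟨hx1, hx2⟩
    exact hinj x hx2 (mem_fixSpace.1 hx1)
  have hsup : fixSpace P.s.1 ⊔ LinearMap.range (dev P.s.1) = ⊤ := by
    apply Submodule.eq_top_of_finrank_eq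
    have := Submodule.finrank_sup_add_finrank_inf_eq (fixSpace P.s.1) (LinearMap.range (dev P.s.1))
    rw [hdisj, finrank_bot] at this
    omega
  let D : Decomp Q g :=
    { V₁ := fixSpace P.s.1
      W := LinearMap.range (dev P.s.1)
      sup := hsup
      perp := fun x hx y hy => by
        obtain ⟨z, rfl⟩ := hy
        exact polar_fix_dev P.s.2 hx z
      inv₁ := fun v hv => by
        rw [mem_fixSpace] at hv ⊢
        rw [hcomm, hv]
      invW := by
        rintro _ ⟨y, rfl⟩
        exact ⟨g.1 y, by rw [dev_apply, dev_apply, hcomm, map_sub]⟩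
      dim := by omega }
  refine ⟨D, rfl, rfl, ?_, hinj⟩
  refine Subtype.ext (LinearEquiv.ext fun v => Subtype.ext ?_)
  show ((((restr g D.V₁ D.inv₁) ^ p ^ P.e).1 v : D.V₁) : V) = (v : V)
  rw [restr_pow_apply]
  have e : g ^ p ^ P.e = P.s ^ p ^ P.e := by
    have h := congrArg (· ^ p ^ P.e) P.mul_eq
    simp only [P.comm.mul_pow, P.u_pow, mul_one] at h
    exact h.symm
  rw [e]
  have hfix : ∀ n : ℕ, (P.s ^ n).1 (v : V) = v := by
    intro n
    induction n with
    | zero => rfl
    | succ n ih =>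
      rw [pow_succ']
      show P.s.1 ((P.s ^ n).1 (v : V)) = _
      rw [ih]
      exact mem_fixSpace.1 v.2
  exact hfix _

end FromParts

end Cfsg.Agent.Lib.SpecNine64
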