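/-
Multisets of eight roots stable under Frobenius and inversion.
-/
import Mathlib

set_option autoImplicit false

namespace Cfsg.Agent.Lib.SpecNine64

variable {K : Type*} [Field K]

/-- The roots of the characteristic polynomial of a semisimple isometry in dimension eight. -/
structure RootData (K : Type*) [Field K] (q : ℕ) where
  m : K → ℕ
  R : Finset K
  mem : ∀ x, x ∈ R ↔ 0 < m x
  le : ∀ T : Finset K, ∑ x ∈ T, m x ≤ 8
  frob : ∀ x, m (x ^ q) = m x
  inv : ∀ x, m x⁻¹ = m x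
  ne0 : ∀ x, 0 < m x → x ≠ 0
  ne1 : ∀ x, 0 < m x → x ≠ 1
  inj : Function.Injective fun x : K => x ^ q
  odd : Odd q

namespace RootData

variable {q : ℕ} (D : RootData K q)

/-- `r` returns to `r ^ ±1` within `d` steps. -/
def Small (_D : RootData K q) (r : K) (d : ℕ) : Prop :=
  ∃ i, 1 ≤ i ∧ i ≤ d ∧ (r ^ q ^ i = r ∨ r ^ q ^ i = r⁻¹)

/-- `x` is a conjugate of `r ^ ±1`. -/
def Rel (_D : RootData K q) (r x : K) : Prop :=
  ∃ i, x = r ^ q ^ i ∨ x = (r ^ q ^ i)⁻¹

include D in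
theorem pow_inj (i : ℕ) {x y : K} (h : x ^ q ^ i = y ^ q ^ i) : x = y := by
  induction i with
  | zero => simpa using h
  | succ i ih =>
    rw [pow_succ, pow_mul, pow_mul] at h
    exact ih (D.inj h)

theorem m_pow (x : K) (i : ℕ) : D.m (x ^ q ^ i) = D.m x := by
  induction i with
  | zero => simp
  | succ i ih => rw [pow_succ, pow_mul, D.frob, ih]

theorem m_rel {r x : K} (h : D.Rel r x) : D.m x = D.m r := by
  obtain ⟨i, rfl | rfl⟩ := h
  · exact D.m_pow r i
  · rw [D.inv]; exact D.m_pow r i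

theorem rel_refl (r : K) : D.Rel r r := ⟨0, Or.inl (by simp)⟩

theorem rel_trans {r x y : K} (h : D.Rel r x) (h' : D.Rel x y) : D.Rel r y := by
  obtain ⟨i, hx⟩ := h
  obtain ⟨j, hy⟩ := h'
  have e : r ^ q ^ (i + j) = (r ^ q ^ i) ^ q ^ j := by rw [pow_add, pow_mul]
  refine ⟨i + j, ?_⟩
  rcases hx with rfl | rfl <;> rcases hy with rfl | rfl
  · exact Or.inl e.symm
  · exact Or.inr (by rw [e])
  · exact Or.inr (by rw [e, inv_pow])
  · exact Or.inl (by rw [e, inv_pow, inv_inv])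

theorem exists_period {r : K} (hr : 0 < D.m r) : ∃ n, 1 ≤ n ∧ r ^ q ^ n = r := by
  classical
  obtain ⟨i, _, j, _, hne, hij⟩ : ∃ i ∈ Finset.range (D.R.card + 1),
      ∃ j ∈ Finset.range (D.R.card + 1), i ≠ j ∧ r ^ q ^ i = r ^ q ^ j :=
    Finset.exists_ne_map_eq_of_card_lt_of_maps_to (t := D.R) (by simp) fun i _ => by
      rw [Finset.mem_coe, D.mem, D.m_pow]; exact hr
  rcases lt_or_gt_of_ne hne with hlt | hlt
  · refine ⟨j - i, by omega, D.pow_inj i ?_⟩
    rw [← pow_mul, ← pow_add, Nat.sub_add_cancel hlt.le, hij]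
  · refine ⟨i - j, by omega, D.pow_inj j ?_⟩
    rw [← pow_mul, ← pow_add, Nat.sub_add_cancel hlt.le, hij]

theorem rel_symm {r x : K} (hr : 0 < D.m r) (h : D.Rel r x) : D.Rel x r := by
  obtain ⟨n, hn, hper⟩ := D.exists_period hr
  have hk : ∀ k, r ^ q ^ (n * k) = r := by
    intro k
    induction k with
    | zero => simp
    | succ k ih => rw [Nat.mul_succ, pow_add, pow_mul, ih, hper]
  obtain ⟨i, hi⟩ := h
  have hle : i ≤ n * i := Nat.le_mul_of_pos_left _ hn
  have e : (r ^ q ^ i) ^ q ^ (n * i - i) = r := by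
    rw [← pow_mul, ← pow_add, Nat.add_sub_cancel' hle, hk]
  refine ⟨n * i - i, ?_⟩
  rcases hi with rfl | rfl
  · exact Or.inl e.symm
  · exact Or.inr (by rw [inv_pow, inv_inv, e])

theorem small_neg_one (d : ℕ) (hd : 1 ≤ d) : D.Small (-1) d :=
  ⟨1, le_rfl, hd, Or.inl (by rw [pow_one, D.odd.neg_one_pow])⟩

theorem small_mono {r : K} {c d : ℕ} (h : D.Small r c) (hcd : c ≤ d) : D.Small r d := by
  obtain ⟨i, h1, h2, h3⟩ := h
  exact ⟨i, h1, h2.trans hcd, h3⟩

open Classical in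
/-- The total multiplicity of the class of `r`. -/
noncomputable def wt (r : K) : ℕ := ∑ x ∈ D.R.filter (D.Rel r), D.m x

theorem wt_ge {r : K} (hr : 0 < D.m r) : D.m r ≤ D.wt r := by
  classical
  exact Finset.single_le_sum (f := D.m) (fun _ _ => Nat.zero_le _)
    (Finset.mem_filter.2 ⟨(D.mem r).2 hr, D.rel_refl r⟩)

theorem wt_orbit {r : K} (hr : 0 < D.m r) (hne : r ≠ -1) {k : ℕ} (hk : ¬ D.Small r k) :
    2 * (k + 1) * D.m r ≤ D.wt r := by
  classical
  let f : Fin (k + 1) × Bool → K := fun p =>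
    if p.2 then r ^ q ^ (p.1 : ℕ) else (r ^ q ^ (p.1 : ℕ))⁻¹
  have hself : r ≠ r⁻¹ := by
    intro h
    have h1 : r * r = 1 * 1 := by
      nth_rw 2 [h]
      rw [mul_inv_cancel₀ (D.ne0 r hr), mul_one]
    rcases mul_self_eq_mul_self_iff.1 h1 with h | h
    · exact D.ne1 r hr h
    · exact hne h
  have hcross : ∀ i j : ℕ, i ≤ k → j ≤ k → i ≤ j → r ^ q ^ i ≠ (r ^ q ^ j)⁻¹ := by
    intro i j hi hj hij h
    have h1 : r = (r ^ q ^ (j - i))⁻¹ := D.pow_inj i (by
      rw [inv_pow, ← pow_mul, ← pow_add, Nat.sub_add_cancel hij]; exact h)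
    rcases Nat.eq_zero_or_pos (j - i) with h0 | h0
    · rw [h0, pow_zero, pow_one] at h1
      exact hself h1
    · exact hk ⟨j - i, h0, by omega, Or.inr (inv_eq_iff_eq_inv.1 h1.symm)⟩
  have hsame : ∀ i j : ℕ, i ≤ k → j ≤ k → i ≤ j → r ^ q ^ i = r ^ q ^ j → i = j := by
    intro i j hi hj hij h
    by_contra hne'
    exact hk ⟨j - i, by omega, by omega, Or.inl (D.pow_inj i (by
      rw [← pow_mul, ← pow_add, Nat.sub_add_cancel hij]; exact h.symm))⟩
  have hfinj : Function.Injective f := by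
    rintro ⟨i, b⟩ ⟨j, c⟩ h
    have hi : (i : ℕ) ≤ k := Nat.lt_succ_iff.1 i.2
    have hj : (j : ℕ) ≤ k := Nat.lt_succ_iff.1 j.2
    cases b <;> cases c <;> simp only [f, Bool.false_eq_true, if_true, if_false] at h
    · rw [inv_inj] at h
      rcases le_total (i : ℕ) j with hij | hij
      · rw [Fin.ext (hsame _ _ hi hj hij h)]
      · rw [Fin.ext (hsame _ _ hj hi hij h.symm).symm]
    · exfalso
      rcases le_total (i : ℕ) j with hij | hij
      · exact hcross _ _ hi hj hij (by rw [← h, inv_inv])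
      · exact hcross _ _ hj hi hij h.symm
    · exfalso
      rcases le_total (i : ℕ) j with hij | hij
      · exact hcross _ _ hi hj hij h
      · exact hcross _ _ hj hi hij (by rw [h, inv_inv])
    · rcases le_total (i : ℕ) j with hij | hij
      · rw [Fin.ext (hsame _ _ hi hj hij h)]
      · rw [Fin.ext (hsame _ _ hj hi hij h.symm).symm]
  have hmem : ∀ p, D.Rel r (f p) := by
    rintro ⟨i, b⟩
    cases b
    · exact ⟨i, Or.inr rfl⟩
    · exact ⟨i, Or.inl rfl⟩
  calc 2 * (k + 1) * D.m r = ∑ x ∈ Finset.univ.image f, D.m x := by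
        rw [Finset.sum_image fun _ _ _ _ h => hfinj h,
          Finset.sum_congr rfl fun p _ => D.m_rel (hmem p), Finset.sum_const, smul_eq_mul]
        simp [mul_comm 2]
    _ ≤ D.wt r := Finset.sum_le_sum_of_subset fun x hx => by
        simp only [Finset.mem_image, Finset.mem_univ, true_and] at hx
        obtain ⟨p, rfl⟩ := hx
        exact Finset.mem_filter.2 ⟨(D.mem _).2 (by rw [D.m_rel (hmem p)]; exact hr), hmem p⟩

theorem wt_two {r : K} (hr : 0 < D.m r) (hne : r ≠ -1) : 2 * D.m r ≤ D.wt r := by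
  simpa using D.wt_orbit hr hne (k := 0) (fun ⟨i, h1, h2, _⟩ => by omega)

theorem wt_pair {r x : K} (hr : 0 < D.m r) (hx : 0 < D.m x) (h : ¬ D.Rel r x) :
    D.wt r + D.wt x ≤ 8 := by
  classical
  rw [wt, wt, ← Finset.sum_union]
  · exact D.le _
  rw [Finset.disjoint_left]
  intro y hy hy'
  rw [Finset.mem_filter] at hy hy'
  exact h (D.rel_trans hy.2 (D.rel_symm hx hy'.2))

theorem wt_triple {r x y : K} (hr : 0 < D.m r) (hx : 0 < D.m x) (hy : 0 < D.m y) (h : ¬ D.Rel r x)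
    (h' : ¬ D.Rel r y) (h'' : ¬ D.Rel x y) : D.wt r + D.wt x + D.wt y ≤ 8 := by
  classical
  rw [wt, wt, wt, ← Finset.sum_union, ← Finset.sum_union]
  · exact D.le _
  · rw [Finset.disjoint_left]
    intro z hz hz'
    rw [Finset.mem_union, Finset.mem_filter, Finset.mem_filter] at hz
    rw [Finset.mem_filter] at hz'
    rcases hz with hz | hz
    · exact h' (D.rel_trans hz.2 (D.rel_symm hy hz'.2))
    · exact h'' (D.rel_trans hz.2 (D.rel_symm hy hz'.2))
  · rw [Finset.disjoint_left]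
    intro z hz hz'
    rw [Finset.mem_filter] at hz hz'
    exact h (D.rel_trans hz.2 (D.rel_symm hx hz'.2))

theorem wt_le (r : K) : D.wt r ≤ 8 := by
  classical exact D.le _

theorem small_four {r : K} (hr : 0 < D.m r) : D.Small r 4 := by
  by_contra hk
  by_cases hne : r = -1
  · exact hk (hne ▸ D.small_neg_one 4 (by omega))
  · have := D.wt_orbit hr hne hk
    have := D.wt_le r
    omega

theorem wt_of_not_small {r : K} (hr : 0 < D.m r) {k : ℕ} (hk1 : 1 ≤ k) (hk : ¬ D.Small r k) :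
    2 * (k + 1) * D.m r ≤ D.wt r :=
  D.wt_orbit hr (fun h => hk (h ▸ D.small_neg_one k hk1)) hk

/-! ### Exponents -/

theorem pow_sub_one {r : K} (hr : 0 < D.m r) {i : ℕ} (h : r ^ q ^ i = r) : r ^ (q ^ i - 1) = 1 := by
  have hq : 1 ≤ q ^ i := Nat.one_le_pow _ _ D.odd.pos
  refine mul_right_cancel₀ (D.ne0 r hr) ?_
  rw [← pow_succ, Nat.sub_add_cancel hq, h, one_mul]

theorem pow_add_one {r : K} (hr : 0 < D.m r) {i : ℕ} (h : r ^ q ^ i = r⁻¹) : r ^ (q ^ i + 1) = 1 := by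
  rw [pow_succ, h, inv_mul_cancel₀ (D.ne0 r hr)]

theorem small_one_pow {r : K} (hr : 0 < D.m r) (h : D.Small r 1) :
    r ^ (q - 1) = 1 ∨ r ^ (q + 1) = 1 := by
  obtain ⟨i, h1, h2, h | h⟩ := h <;> obtain rfl : i = 1 := by omega
  · exact Or.inl (by simpa using D.pow_sub_one hr h)
  · exact Or.inr (by simpa using D.pow_add_one hr h)

theorem pow_of_dvd {x : K} {a N : ℕ} (h : x ^ a = 1) (hd : a ∣ N) : x ^ N = 1 := by
  obtain ⟨c, rfl⟩ := hd; rw [pow_mul, h, one_pow]

theorem sub_one_dvd_sq : q - 1 ∣ q ^ 2 - 1 ∧ q + 1 ∣ q ^ 2 - 1 := by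
  have h : q ^ 2 - 1 = (q + 1) * (q - 1) := by rw [← one_pow 2, Nat.sq_sub_sq, one_pow]
  rw [h]; exact ⟨dvd_mul_left _ _, dvd_mul_right _ _⟩

theorem small_two_pow {r : K} (hr : 0 < D.m r) (h : D.Small r 2) :
    r ^ (q ^ 2 - 1) = 1 ∨ r ^ (q ^ 2 + 1) = 1 := by
  obtain ⟨i, h1, h2, h⟩ := h
  rcases (show i = 1 ∨ i = 2 by omega) with rfl | rfl
  · left
    rcases D.small_one_pow hr ⟨1, le_rfl, le_rfl, h⟩ with h | h
    · exact pow_of_dvd h sub_one_dvd_sq.1
    · exact pow_of_dvd h sub_one_dvd_sq.2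
  · rcases h with h | h
    · exact Or.inl (D.pow_sub_one hr h)
    · exact Or.inr (D.pow_add_one hr h)

theorem rel_pow {r x : K} (h : D.Rel r x) {N : ℕ} (hN : r ^ N = 1) : x ^ N = 1 := by
  obtain ⟨i, rfl | rfl⟩ := h
  · rw [← pow_mul, mul_comm, pow_mul, hN, one_pow]
  · rw [inv_pow, ← pow_mul, mul_comm, pow_mul, hN, one_pow, inv_one]

/-- All roots are `N`th roots of unity. -/
def All (N : ℕ) : Prop := ∀ x, 0 < D.m x → x ^ N = 1

/-- Without repeated roots. -/
theorem semisimple_cases :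
    D.All (Nat.lcm (q ^ 2 - 1) (q ^ 2 + 1)) ∨ D.All (Nat.lcm (q ^ 3 - 1) (q + 1)) ∨
      D.All (Nat.lcm (q ^ 3 + 1) (q - 1)) ∨
      ∃ r, 0 < D.m r ∧ r ≠ -1 ∧ ∀ x, 0 < D.m x → D.Rel r x := by
  by_cases h : ∀ x, 0 < D.m x → D.Small x 2
  · left
    intro x hx
    rcases D.small_two_pow hx (h x hx) with h | h
    · exact pow_of_dvd h (Nat.dvd_lcm_left _ _)
    · exact pow_of_dvd h (Nat.dvd_lcm_right _ _)
  push Not at h
  obtain ⟨r, hr, hr2⟩ := h
  have hrne : r ≠ -1 := fun e => hr2 (e ▸ D.small_neg_one 2 (by omega))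
  have hwr := D.wt_of_not_small hr (by omega) hr2
  by_cases hall : ∀ x, 0 < D.m x → D.Rel r x
  · exact Or.inr (Or.inr (Or.inr ⟨r, hr, hrne, hall⟩))
  push Not at hall
  obtain ⟨y, hy, hy'⟩ := hall
  have hr3 : D.Small r 3 := by
    by_contra h3
    have := D.wt_of_not_small hr (by omega) h3
    have := D.wt_pair hr hy hy'
    have := D.wt_ge hy
    omega
  have hcase : ∀ x, 0 < D.m x → D.Rel r x ∨ D.Small x 1 := by
    intro x hx
    by_cases hrel : D.Rel r x
    · exact Or.inl hrel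
    · refine Or.inr ?_
      by_contra h1
      have := D.wt_of_not_small hx le_rfl h1
      have := D.wt_pair hr hx hrel
      omega
  obtain ⟨i, hi1, hi3, hi⟩ := hr3
  obtain rfl : i = 3 := by
    by_contra hne
    exact hr2 ⟨i, hi1, by omega, hi⟩
  have hq1 : 1 ≤ q := D.odd.pos
  rcases hi with hi | hi
  · right; left
    intro x hx
    rcases hcase x hx with h | h
    · exact D.rel_pow h (pow_of_dvd (D.pow_sub_one hr hi) (Nat.dvd_lcm_left _ _))
    · rcases D.small_one_pow hx h with h | h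
      · exact pow_of_dvd h (Dvd.dvd.trans (by simpa using Nat.sub_dvd_pow_sub_pow q 1 3) (Nat.dvd_lcm_left _ _))
      · exact pow_of_dvd h (Nat.dvd_lcm_right _ _)
  · right; right; left
    intro x hx
    rcases hcase x hx with h | h
    · exact D.rel_pow h (pow_of_dvd (D.pow_add_one hr hi) (Nat.dvd_lcm_left _ _))
    · rcases D.small_one_pow hx h with h | h
      · exact pow_of_dvd h (Nat.dvd_lcm_right _ _)
      · refine pow_of_dvd h (Dvd.dvd.trans ?_ (Nat.dvd_lcm_left _ _))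
        simpa using Odd.nat_add_dvd_pow_add_pow q 1 (show Odd 3 by decide)

/-- A repeated root. -/
theorem repeated_cases {r₀ : K} (h₀ : (r₀ ≠ -1 ∧ 2 ≤ D.m r₀) ∨ (r₀ = -1 ∧ 3 ≤ D.m r₀)) :
    D.All (Nat.lcm (q ^ 2 + 1) (q + 1)) ∨ D.All (Nat.lcm (q ^ 2 + 1) (q - 1)) ∨
      D.All (q ^ 2 - 1) := by
  have hr₀ : 0 < D.m r₀ := by omega
  have hw₀ : 3 ≤ D.wt r₀ := by
    rcases h₀ with ⟨hne, hm⟩ | ⟨-, hm⟩
    · have := D.wt_two hr₀ hne; omega
    · have := D.wt_ge hr₀; omega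
  have hrel : ∀ r, 0 < D.m r → r ≠ -1 → D.Rel r r₀ → 2 ≤ D.m r := by
    intro r hr hne hR
    have hm := D.m_rel hR
    rcases h₀ with ⟨-, hm'⟩ | ⟨-, hm'⟩ <;> omega
  have hsmall : ∀ x, 0 < D.m x → D.Small x 2 := by
    intro x hx
    by_contra h2
    have hne : x ≠ -1 := fun e => h2 (e ▸ D.small_neg_one 2 (by omega))
    have hw := D.wt_of_not_small hx (by omega) h2
    by_cases hR : D.Rel x r₀
    · have := hrel x hx hne hR
      have := D.wt_le x
      omega
    · have := D.wt_pair hx hr₀ hR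
      omega
  by_cases h1 : ∀ x, 0 < D.m x → D.Small x 1
  · right; right
    intro x hx
    rcases D.small_one_pow hx (h1 x hx) with h | h
    · exact pow_of_dvd h sub_one_dvd_sq.1
    · exact pow_of_dvd h sub_one_dvd_sq.2
  push Not at h1
  obtain ⟨r, hr, hr1⟩ := h1
  have hrne : r ≠ -1 := fun e => hr1 (e ▸ D.small_neg_one 1 le_rfl)
  have hwr := D.wt_of_not_small hr le_rfl hr1
  have hother : ∀ x, 0 < D.m x → ¬ D.Rel r x → D.Rel x r₀ ∨ x = -1 := by
    intro x hx hxr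
    by_contra hc
    push Not at hc
    have := D.wt_two hx hc.2
    by_cases hR : D.Rel r r₀
    · have := hrel r hr hrne hR
      have := D.wt_pair hr hx hxr
      omega
    · have := D.wt_triple hr hr₀ hx hR hxr fun h => hc.1 (D.rel_symm hr₀ h)
      omega
  have hr₀1 : ¬ D.Rel r r₀ → D.Small r₀ 1 := by
    intro hR
    by_contra h1
    have hne : r₀ ≠ -1 := fun e => h1 (e ▸ D.small_neg_one 1 le_rfl)
    have := D.wt_of_not_small hr₀ le_rfl h1
    have := D.wt_pair hr hr₀ hR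
    rcases h₀ with ⟨-, hm⟩ | ⟨-, hm⟩ <;> omega
  obtain ⟨ε, hε, hall⟩ : ∃ ε, (ε = q + 1 ∨ ε = q - 1) ∧
      ∀ x, 0 < D.m x → D.Rel r x ∨ x ^ ε = 1 := by
    have heven : ∀ ε, (ε = q + 1 ∨ ε = q - 1) → (-1 : K) ^ ε = 1 := by
      rintro ε (rfl | rfl)
      · exact D.odd.add_one.neg_one_pow
      · exact (Nat.Odd.sub_odd D.odd odd_one).neg_one_pow
    by_cases hR : D.Rel r r₀
    · refine ⟨q + 1, Or.inl rfl, fun x hx => ?_⟩
      by_cases hxr : D.Rel r x
      · exact Or.inl hxr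
      rcases hother x hx hxr with h | h
      · exact absurd (D.rel_trans hR (D.rel_symm hx h)) hxr
      · exact Or.inr (h ▸ heven _ (Or.inl rfl))
    · have key : ∀ ε, (ε = q + 1 ∨ ε = q - 1) → r₀ ^ ε = 1 →
          ∀ x, 0 < D.m x → D.Rel r x ∨ x ^ ε = 1 := by
        intro ε hε h x hx
        by_cases hxr : D.Rel r x
        · exact Or.inl hxr
        rcases hother x hx hxr with h' | h'
        · exact Or.inr (D.rel_pow (D.rel_symm hx h') h)
        · exact Or.inr (h' ▸ heven _ hε)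
      rcases D.small_one_pow hr₀ (hr₀1 hR) with h | h
      · exact ⟨_, Or.inr rfl, key _ (Or.inr rfl) h⟩
      · exact ⟨_, Or.inl rfl, key _ (Or.inl rfl) h⟩
  rcases D.small_two_pow hr (hsmall r hr) with h | h
  · right; right
    intro x hx
    rcases hall x hx with h' | h'
    · exact D.rel_pow h' h
    · rcases hε with rfl | rfl
      · exact pow_of_dvd h' sub_one_dvd_sq.2
      · exact pow_of_dvd h' sub_one_dvd_sq.1
  · have : D.All (Nat.lcm (q ^ 2 + 1) ε) := fun x hx => by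
      rcases hall x hx with h' | h'
      · exact D.rel_pow h' (pow_of_dvd h (Nat.dvd_lcm_left _ _))
      · exact pow_of_dvd h' (Nat.dvd_lcm_right _ _)
    rcases hε with rfl | rfl
    · exact Or.inl this
    · exact Or.inr (Or.inl this)

/-- A root of large multiplicity. -/
theorem block_cases {r₀ : K} (h₀ : (r₀ ≠ -1 ∧ 4 ≤ D.m r₀) ∨ (r₀ = -1 ∧ 5 ≤ D.m r₀)) :
    D.All (q - 1) ∨ D.All (q + 1) := by
  have hr₀ : 0 < D.m r₀ := by omega
  have heven : (-1 : K) ^ (q - 1) = 1 ∧ (-1 : K) ^ (q + 1) = 1 :=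
    ⟨(Nat.Odd.sub_odd D.odd odd_one).neg_one_pow, D.odd.add_one.neg_one_pow⟩
  obtain ⟨y, hy, hy1, hall⟩ : ∃ y, 0 < D.m y ∧ D.Small y 1 ∧
      ∀ x, 0 < D.m x → D.Rel y x ∨ x = -1 := by
    rcases h₀ with ⟨hne, hm⟩ | ⟨hne, hm⟩
    · have hw := D.wt_two hr₀ hne
      refine ⟨r₀, hr₀, ?_, fun x hx => ?_⟩
      · by_contra h1
        have := D.wt_of_not_small hr₀ le_rfl h1
        have := D.wt_le r₀
        omega
      · by_contra hc
        push Not at hc
        have := D.wt_pair hr₀ hx hc.1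
        have := D.wt_ge hx
        omega
    · have hw := D.wt_ge hr₀
      by_cases hother : ∀ x, 0 < D.m x → x = -1
      · exact ⟨r₀, hr₀, hne ▸ D.small_neg_one 1 le_rfl, fun x hx => Or.inr (hother x hx)⟩
      push Not at hother
      obtain ⟨y, hy, hy'⟩ := hother
      have hyr : ∀ x, 0 < D.m x → x ≠ -1 → ¬ D.Rel r₀ x := by
        intro x hx hx' hR
        subst hne
        obtain ⟨i, hi | hi⟩ := hR <;> apply hx' <;> rw [hi, (D.odd.pow).neg_one_pow]
        rw [inv_neg_one]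
      refine ⟨y, hy, ?_, fun x hx => ?_⟩
      · by_contra h1
        have := D.wt_of_not_small hy le_rfl h1
        have := D.wt_pair hr₀ hy (hyr y hy hy')
        omega
      · by_contra hc
        push Not at hc
        have := D.wt_triple hr₀ hy hx (hyr y hy hy') (hyr x hx hc.2) hc.1
        have := D.wt_two hy hy'
        have := D.wt_two hx hc.2
        omega
  rcases D.small_one_pow hy hy1 with h | h
  · refine Or.inl fun x hx => ?_
    rcases hall x hx with h' | h'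
    · exact D.rel_pow h' h
    · exact h' ▸ heven.1
  · refine Or.inr fun x hx => ?_
    rcases hall x hx with h' | h'
    · exact D.rel_pow h' h
    · exact h' ▸ heven.2

/-- The root `-1` with multiplicity at least seven. -/
theorem block_seven (h : 7 ≤ D.m (-1)) : D.All 2 := by
  intro x hx
  by_cases hne : x = -1
  · rw [hne, neg_one_sq]
  exfalso
  have h1 : ¬ D.Rel (-1) x := by
    rintro ⟨i, hi | hi⟩ <;> apply hne <;> rw [hi, (D.odd.pow).neg_one_pow]
    rw [inv_neg_one]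
  have := D.wt_pair (show 0 < D.m (-1) by omega) hx h1
  have := D.wt_ge (show 0 < D.m (-1) by omega)
  have := D.wt_two hx hne
  omega

end RootData

end Cfsg.Agent.Lib.SpecNine64
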