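/-
Element orders of `Ω⁺₈(q)` at elements whose semisimple part has no fixed vectors.
-/
import Cfsg.Agent.Lib.SpecNine64.Torus
import Cfsg.Agent.Lib.SpecNine64.Unip
import Cfsg.Agent.Lib.SpecNine64.Orbits
import Cfsg.Agent.Lib.SpecNine64.Split
import Cfsg.Agent.Lib.Forms.Det
import Cfsg.Agent.Lib.Orth52.Rank

set_option autoImplicit false
set_option linter.unusedSectionVars false

namespace Cfsg.Agent.Lib.SpecNine64

open Module QuadraticMap Polynomial
open Cfsg.Agent.Lib.Forms
open Cfsg.Agent.Lib.Orth52
open scoped Matrix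

variable {F : Type*} [Field F] {ι : Type} [Fintype ι] [DecidableEq ι]
variable (K : Type*) [Field K] [Algebra F K]

/-- Extension of scalars for endomorphisms of a coordinate space. -/
noncomputable def bc : Module.End F (ι → F) →+* Module.End K (ι → K) :=
  (Matrix.toLinAlgEquiv' (R := K) (n := ι)).toRingEquiv.toRingHom.comp
    ((algebraMap F K).mapMatrix.comp
      (LinearMap.toMatrixAlgEquiv' (R := F) (n := ι)).toRingEquiv.toRingHom)

theorem bc_eq (T : Module.End F (ι → F)) :
    bc K T = Matrix.toLin' ((LinearMap.toMatrix' T).map (algebraMap F K)) := rfl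

theorem bc_apply (T : Module.End F (ι → F)) (v : ι → F) :
    bc K T (algebraMap F K ∘ v) = algebraMap F K ∘ T v := by
  funext i
  rw [bc_eq, Matrix.toLin'_apply]
  have h := RingHom.map_mulVec (algebraMap F K) (LinearMap.toMatrix' T) v i
  rw [LinearMap.toMatrix'_mulVec] at h
  exact h.symm

theorem bc_injective : Function.Injective (bc (F := F) (ι := ι) K) := fun T T' h => by
  refine LinearMap.ext fun v => funext fun i => (algebraMap F K).injective ?_
  have := congrFun (LinearMap.congr_fun h (algebraMap F K ∘ v)) i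
  rw [bc_apply, bc_apply] at this
  exact this

theorem bc_charpoly (T : Module.End F (ι → F)) :
    (bc K T).charpoly = (LinearMap.toMatrix' T).charpoly.map (algebraMap F K) := by
  rw [bc_eq, Matrix.charpoly_toLin', Matrix.charpoly_map]

variable {K}

/-- The averaging operator onto the `-1` eigenspace. -/
theorem neg_proj {W : Type*} [AddCommGroup W] [Module K W] {S : Module.End K W} {L : ℕ}
    (hL : (L : K) ≠ 0) (hS : (-S) ^ L = 1) {k : ℕ} {v : W} (hv : ((S + 1) ^ k) v = 0) :
    (L : K)⁻¹ • (∑ i ∈ Finset.range L, (-S) ^ i) v = v := by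
  set y : Module.End K W := -S - 1
  set G : Module.End K W := ∑ i ∈ Finset.range L, (-S) ^ i
  set P : Module.End K W := (L : K)⁻¹ • G
  show P v = v
  have hyG : y * G = 0 := by rw [mul_geom_sum, hS, sub_self]
  have hcomm : Commute y G := Commute.sum_right _ _ _ fun i _ =>
    ((Commute.refl (-S)).pow_right i).sub_left (Commute.one_left _)
  set A : Module.End K W :=
    -((L : K)⁻¹ • ∑ i ∈ Finset.range L, ∑ j ∈ Finset.range i, (-S) ^ j)
  have hyA : y * A = 1 - P := by
    have h1 : y * ∑ i ∈ Finset.range L, ∑ j ∈ Finset.range i, (-S) ^ j = G - (L : Module.End K W) := by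
      rw [Finset.mul_sum, Finset.sum_congr rfl fun i _ => mul_geom_sum (-S) i, Finset.sum_sub_distrib]
      simp [G]
    have h2 : (L : Module.End K W) = (L : K) • (1 : Module.End K W) := by
      rw [← Algebra.algebraMap_eq_smul_one, map_natCast]
    rw [mul_neg, mul_smul_comm, h1, smul_sub, neg_sub, h2, smul_smul, inv_mul_cancel₀ hL, one_smul]
  have hcomA : Commute y A := by
    refine Commute.neg_right (Commute.smul_right ?_ _)
    exact Commute.sum_right _ _ _ fun i _ => Commute.sum_right _ _ _ fun j _ =>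
      ((Commute.refl (-S)).pow_right j).sub_left (Commute.one_left _)
  have hidem : (1 - P) * (1 - P) = 1 - P := by
    have hPy : P * y = 0 := by rw [smul_mul_assoc, ← hcomm.eq, hyG, smul_zero]
    rw [sub_mul 1 P (1 - P), one_mul]
    have : P * (1 - P) = 0 := by rw [← hyA, ← mul_assoc, hPy, zero_mul]
    rw [this, sub_zero]
  have h2 : ∀ n : ℕ, (1 - P) ^ (n + 1) = 1 - P := by
    intro n
    induction n with
    | zero => rw [pow_one]
    | succ n ih => rw [pow_succ, ih, hidem]
  have hyk : (y ^ (k + 1)) v = 0 := by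
    have : y = -(S + 1) := (neg_add' S 1).symm
    rw [this, neg_pow, pow_succ' (S + 1), Module.End.mul_apply, Module.End.mul_apply, hv, map_zero,
      map_zero]
  have h3 : (1 - P) v = 0 := by
    rw [← h2 k, ← hyA, hcomA.mul_pow, (hcomA.pow_pow _ _).eq, Module.End.mul_apply, hyk, map_zero]
  rw [LinearMap.sub_apply, Module.End.one_apply, sub_eq_zero] at h3
  exact h3.symm

variable [Finite F] {Q : QuadraticForm F (ι → F)}

theorem charpoly_inv_orth (hQ : Nondeg Q) (g : orth Q) :
    (LinearMap.toMatrix' (g⁻¹).1.toLinearMap).charpoly =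
      (LinearMap.toMatrix' g.1.toLinearMap).charpoly := by
  set A := LinearMap.toMatrix' g.1.toLinearMap
  set A' := LinearMap.toMatrix' (g⁻¹).1.toLinearMap
  have hAA : A * A' = 1 := by
    rw [← LinearMap.toMatrix'_comp, ← LinearMap.toMatrix'_id]
    congr 1
    refine LinearMap.ext fun v => ?_
    show ((g * g⁻¹ : orth Q)).1 v = v
    rw [mul_inv_cancel]; rfl
  have hG : Aᵀ * gram Q * A = gram Q := by
    refine Matrix.toLinearMap₂'_injective_aux ?_
    intro u v
    have h := orth_polar g.2 u v
    rw [polar_eq_gram, polar_eq_gram] at h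
    have e : ∀ w, g.1 w = A *ᵥ w := fun w => (LinearMap.toMatrix'_mulVec g.1.toLinearMap w).symm
    rw [e, e, Matrix.mulVec_mulVec, Matrix.dotProduct_mulVec, ← Matrix.vecMul_transpose,
      Matrix.vecMul_vecMul, ← Matrix.mul_assoc, ← Matrix.dotProduct_mulVec] at h
    exact h
  let G : (Matrix ι ι F)ˣ := Matrix.GeneralLinearGroup.mkOfDetNeZero (gram Q) (gram_det_ne_zero hQ)
  have e : A' = (↑G⁻¹ : Matrix ι ι F) * Aᵀ * (G : Matrix ι ι F) := by
    have h1 : Aᵀ * gram Q = gram Q * A' := by
      conv_rhs => rw [← hG, Matrix.mul_assoc (Aᵀ * gram Q), hAA, Matrix.mul_one]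
    rw [Matrix.mul_assoc, show (G : Matrix ι ι F) = gram Q from rfl, h1, ← Matrix.mul_assoc,
      show gram Q = (G : Matrix ι ι F) from rfl, Units.inv_mul, Matrix.one_mul]
  rw [e, Matrix.coe_units_inv, Matrix.charpoly_units_conj', Matrix.charpoly_transpose]
where
  Matrix.toLinearMap₂'_injective_aux {M N : Matrix ι ι F}
      (h : ∀ u v, u ⬝ᵥ M *ᵥ v = u ⬝ᵥ N *ᵥ v) : M = N := by
    ext i j
    simpa using h (Pi.single i 1) (Pi.single j 1)

section Facts

/-- The generalised eigenspaces of mutually inverse maps. -/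
theorem maxGen_inv_le {W : Type*} [AddCommGroup W] [Module K W] {A B : Module.End K W} (hAB : A * B = 1)
    (hBA : B * A = 1) {r : K} (hr : r ≠ 0) :
    B.maxGenEigenspace r ≤ A.maxGenEigenspace r⁻¹ := by
  intro v hv
  rw [Module.End.mem_maxGenEigenspace] at hv ⊢
  obtain ⟨k, hk⟩ := hv
  refine ⟨k, ?_⟩
  have e : A - r⁻¹ • (1 : Module.End K W) = ((-r⁻¹) • A) * (B - r • 1) := by
    rw [smul_mul_assoc, mul_sub, hAB, mul_smul_comm, mul_one, smul_sub, smul_smul, neg_mul,
      inv_mul_cancel₀ hr, neg_smul, neg_smul, one_smul]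
    abel
  have hc : Commute ((-r⁻¹) • A) (B - r • (1 : Module.End K W)) :=
    Commute.smul_left ((show Commute A B from hAB.trans hBA.symm).sub_right
      ((Commute.one_right A).smul_right r)) _
  rw [e, hc.mul_pow, Module.End.mul_apply, hk, map_zero]

variable (K) [IsAlgClosed K] {S : Module.End F (ι → F)} {L : ℕ}

/-- The multiplicity of a root. -/
noncomputable def mult (S : Module.End F (ι → F)) (r : K) : ℕ := (bc K S).charpoly.rootMultiplicity r

theorem mult_frob [Fintype F] (r : K) : mult K S (r ^ Fintype.card F) = mult K S r := by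
  let φ : K →+* K := (FiniteField.frobeniusAlgHom F K).toRingHom
  have hP : (bc K S).charpoly.map φ = (bc K S).charpoly := by
    rw [bc_charpoly, Polynomial.map_map]
    congr 1
    exact (FiniteField.frobeniusAlgHom F K).comp_algebraMap
  have h := Polynomial.eq_rootMultiplicity_map (p := (bc K S).charpoly) (f := φ) φ.injective r
  rw [hP] at h
  exact h.symm

theorem finrank_maxGen (r : K) :
    finrank K ((bc K S).maxGenEigenspace r) = mult K S r :=
  LinearMap.finrank_maxGenEigenspace_eq _ r

theorem exists_eigvec {r : K} (hr : 0 < mult K S r) : ∃ v, v ≠ 0 ∧ bc K S v = r • v := by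
  have h : (bc K S).HasEigenvalue r :=
    (Module.End.hasEigenvalue_iff_isRoot_charpoly _ _).2 ((Polynomial.rootMultiplicity_pos'.1 hr).2)
  obtain ⟨v, hv⟩ := h.exists_hasEigenvector
  exact ⟨v, hv.2, hv.apply_eq_smul⟩

theorem root_pow (hS : S ^ L = 1) {r : K} (hr : 0 < mult K S r) : r ^ L = 1 := by
  obtain ⟨v, hv0, hv⟩ := exists_eigvec K hr
  have h : ∀ n : ℕ, ((bc K S) ^ n) v = r ^ n • v := by
    intro n
    induction n with
    | zero => simp
    | succ n ih => rw [pow_succ, Module.End.mul_apply, hv, map_smul, ih, smul_smul, pow_succ' r]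
  have h1 := h L
  rw [← map_pow, hS, map_one, Module.End.one_apply] at h1
  exact smul_left_injective K hv0 (h1.symm.trans (one_smul K v).symm)

theorem root_ne_one (hfix : ∀ v, S v = v → v = 0) {r : K} (hr : 0 < mult K S r) : r ≠ 1 := by
  rintro rfl
  have h := (Polynomial.rootMultiplicity_pos'.1 hr).2
  rw [bc_charpoly, ← map_one (algebraMap F K), Polynomial.isRoot_map_iff (algebraMap F K).injective,
    ← Matrix.charpoly_toLin', Matrix.toLin'_toMatrix'] at h
  obtain ⟨v, hv⟩ := ((Module.End.hasEigenvalue_iff_isRoot_charpoly _ _).2 h).exists_hasEigenvector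
  exact hv.2 (hfix v (by rw [hv.apply_eq_smul, one_smul]))

theorem mult_sum (T : Finset K) : ∑ x ∈ T, mult K S x ≤ Fintype.card ι := by
  classical
  set P := (bc K S).charpoly with hP
  calc ∑ x ∈ T, mult K S x = ∑ x ∈ T, P.roots.count x :=
        Finset.sum_congr rfl fun x _ => (Polynomial.count_roots P).symm
    _ ≤ ∑ x ∈ T ∪ P.roots.toFinset, P.roots.count x :=
        Finset.sum_le_sum_of_subset Finset.subset_union_left
    _ = ∑ x ∈ P.roots.toFinset, P.roots.count x := by
        refine (Finset.sum_subset Finset.subset_union_right fun x _ hx => ?_).symm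
        exact Multiset.count_eq_zero.2 fun h => hx (Multiset.mem_toFinset.2 h)
    _ = Multiset.card P.roots := Multiset.toFinset_sum_count_eq _
    _ ≤ P.natDegree := Polynomial.card_roots' P
    _ = Fintype.card ι := by
        rw [hP, LinearMap.charpoly_natDegree, Module.finrank_fintype_fun_eq_card]

/-- A fixed vector of a power forces a root with that property. -/
theorem exists_root_of_fix {j : ℕ} {v : ι → F} (hv : (S ^ j) v = v) (hv0 : v ≠ 0) :
    ∃ r : K, 0 < mult K S r ∧ r ^ j = 1 := by
  set E := LinearMap.ker ((bc K S) ^ j - 1)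
  have hinv : ∀ x ∈ E, bc K S x ∈ E := by
    intro x hx
    rw [LinearMap.mem_ker] at hx ⊢
    rw [← Module.End.mul_apply, sub_mul, one_mul, ← pow_succ, pow_succ', ← mul_one (bc K S),
      mul_one, show bc K S * bc K S ^ j - bc K S = bc K S * (bc K S ^ j - 1) by
        rw [mul_sub, mul_one], Module.End.mul_apply, hx, map_zero]
  have hmem : algebraMap F K ∘ v ∈ E := by
    rw [LinearMap.mem_ker, LinearMap.sub_apply, ← map_pow, bc_apply, hv, Module.End.one_apply,
      sub_self]
  have : Nontrivial E := ⟨⟨_, hmem⟩, 0, fun h => hv0 (funext fun i => (algebraMap F K).injective (by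
    simpa using congrFun (congrArg Subtype.val h) i))⟩
  obtain ⟨r, hr⟩ := Module.End.exists_eigenvalue (LinearMap.restrict (bc K S) hinv)
  obtain ⟨w, hw⟩ := hr.exists_hasEigenvector
  have hw' : bc K S w.1 = r • w.1 := congrArg Subtype.val hw.apply_eq_smul
  have hw0 : w.1 ≠ 0 := fun h => hw.2 (Subtype.ext h)
  refine ⟨r, ?_, ?_⟩
  · rw [← finrank_maxGen]
    by_contra h
    push Not at h
    have hb := Submodule.finrank_eq_zero.1 (Nat.le_zero.1 h)
    have : w.1 ∈ (bc K S).maxGenEigenspace r :=
      (Module.End.mem_maxGenEigenspace _ _ _).2 ⟨1, by simp [hw']⟩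
    rw [hb, Submodule.mem_bot] at this
    exact hw0 this
  · have h : ∀ n : ℕ, ((bc K S) ^ n) w.1 = r ^ n • w.1 := by
      intro n
      induction n with
      | zero => simp
      | succ n ih => rw [pow_succ, Module.End.mul_apply, hw', map_smul, ih, smul_smul, pow_succ' r]
    have h1 : ((bc K S) ^ j - 1) w.1 = 0 := w.2
    rw [LinearMap.sub_apply, h, Module.End.one_apply, sub_eq_zero] at h1
    exact smul_left_injective K hw0 (h1.trans (one_smul K w.1).symm)

/-- If all roots are `N`th roots of unity, so is the map. -/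
theorem dvd_of_roots (p : ℕ) [hp : Fact p.Prime] [CharP F p] (hpL : ¬ p ∣ L) (hS : S ^ L = 1)
    (hmin : ∀ n, S ^ n = 1 → L ∣ n) {N : ℕ} (h : ∀ r : K, 0 < mult K S r → r ^ N = 1) : L ∣ N := by
  classical
  set P := (bc K S).charpoly with hP
  have hdvd : P ∣ (X ^ N - 1) ^ Multiset.card P.roots := by
    have hroot : ∀ r ∈ P.roots, (X - C r) ∣ (X ^ N - 1 : K[X]) := by
      intro r hr
      rw [Polynomial.dvd_iff_isRoot]
      have : 0 < mult K S r := by
        rw [mult, ← Polynomial.count_roots]; exact Multiset.count_pos.2 hr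
      simp [h r this]
    have h2 := Multiset.prod_dvd_prod_of_dvd (fun r => X - C r) (fun _ => (X ^ N - 1 : K[X])) hroot
    rw [Multiset.map_const', Multiset.prod_replicate] at h2
    conv_lhs => rw [(IsAlgClosed.splits P).eq_prod_roots_of_monic (LinearMap.charpoly_monic _)]
    exact h2
  obtain ⟨c, hc⟩ := hdvd
  set k := Multiset.card P.roots
  have h0 : ((bc K S) ^ N - 1) ^ k = 0 := by
    have := congrArg (Polynomial.aeval (bc K S)) hc
    rwa [map_mul, LinearMap.aeval_self_charpoly, zero_mul, map_pow, map_sub, map_pow, aeval_X,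
      map_one] at this
  rw [← map_pow, ← map_one (bc (F := F) (ι := ι) K), ← map_sub, ← map_pow, ← map_zero (bc (F := F) (ι := ι) K)] at h0
  have h1 := bc_injective K h0
  have h2 : (S ^ N) ^ p ^ k = 1 := by
    rw [← sub_eq_zero, ← sub_one_pow_eq (F := F) p]
    exact pow_eq_zero_of_le (Nat.le_of_lt (Nat.lt_pow_self hp.out.one_lt)) h1
  rw [← pow_mul] at h2
  exact Nat.Coprime.dvd_of_dvd_mul_right
    (((hp.out.coprime_iff_not_dvd.2 hpL).symm).pow_right _) (hmin _ h2)

/-- The nilpotency index of a commuting nilpotent map is bounded by the root multiplicities. -/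
theorem pow_eq_zero_of_mult {N : Module.End F (ι → F)} (hcomm : Commute S N) (hN : IsNilpotent N)
    {j : ℕ} (h : ∀ r : K, r ≠ -1 → mult K S r ≤ j)
    (hneg : ∀ v ∈ (bc K S).maxGenEigenspace (-1 : K), (bc K (N ^ j)) v = 0) : N ^ j = 0 := by
  refine bc_injective K ?_
  rw [map_zero, ← LinearMap.ker_eq_top, eq_top_iff, ← Module.End.iSup_maxGenEigenspace_eq_top (bc K S),
    iSup_le_iff]
  intro r v hv
  rw [LinearMap.mem_ker]
  by_cases hr : r = -1
  · exact hneg v (hr ▸ hv)
  have hc : Commute (bc K S) (bc K N) := hcomm.map (bc K)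
  have hmaps : ∀ x ∈ (bc K S).maxGenEigenspace r, bc K N x ∈ (bc K S).maxGenEigenspace r := by
    intro x hx
    rw [Module.End.mem_maxGenEigenspace] at hx ⊢
    obtain ⟨k, hk⟩ := hx
    refine ⟨k, ?_⟩
    rw [← Module.End.mul_apply, ((hc.sub_left ((Commute.one_left _).smul_left r)).pow_left k).eq,
      Module.End.mul_apply, hk, map_zero]
  obtain ⟨k, hk⟩ := hN
  have hnil : IsNilpotent ((bc K N).restrict hmaps) := ⟨k, LinearMap.ext fun x => Subtype.ext (by
    rw [Module.End.pow_restrict _ hmaps, LinearMap.restrict_coe_apply, ← map_pow, hk, map_zero]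
    rfl)⟩
  have h0 := pow_finrank_eq_zero hnil
  have h1 := congrArg Subtype.val (LinearMap.congr_fun h0 ⟨v, hv⟩)
  rw [Module.End.pow_restrict _ hmaps, LinearMap.restrict_coe_apply, finrank_maxGen] at h1
  rw [map_pow, ← Nat.sub_add_cancel (h r hr), pow_add, Module.End.mul_apply,
    show ((bc K N) ^ mult K S r) v = 0 from h1, map_zero]

end Facts

/-- The list of exponents. -/
def UpperList (q p M : ℕ) : Prop :=
  M ∣ Nat.lcm (q ^ 2 - 1) (q ^ 2 + 1) ∨ M ∣ Nat.lcm (q ^ 3 - 1) (q + 1) ∨
    M ∣ Nat.lcm (q ^ 3 + 1) (q - 1) ∨ M ∣ Nat.lcm (Nat.lcm (q ^ 2 + 1) (q + 1)) p ∨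
    M ∣ Nat.lcm (Nat.lcm (q ^ 2 + 1) (q - 1)) p ∨ M ∣ Nat.lcm (q ^ 2 - 1) p ∨
    (p = 3 ∧ (M ∣ Nat.lcm (q - 1) 9 ∨ M ∣ Nat.lcm (q + 1) 9)) ∨ (p = 5 ∧ M ∣ Nat.lcm 2 25)

section Neg

variable (h2 : (2 : F) ≠ 0)
include h2

/-- A unipotent isometry on the `-1` eigenspace. -/
theorem neg_block (hQ : Nondeg Q) (he : Even (Fintype.card ι)) (s u : orth Q) (hcomm : Commute s u)
    {L : ℕ} (hL : (L : F) ≠ 0) (hLe : Even L) (hs : s ^ L = 1) {r : ℕ} (hr : Odd r) (hu : u ^ r = 1)
    (hn : IsNilpotent (u.1.toLinearMap - 1 : Module.End F (ι → F)))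
    (hfix : ∀ v, s.1 v = v → v = 0) :
    ∀ j, finrank F (LinearMap.ker (s.1.toLinearMap + 1 : Module.End F (ι → F))) ≤ j + 1 →
      (u.1.toLinearMap - 1 : Module.End F (ι → F)) ^ j *
        ∑ i ∈ Finset.range L, (-(s.1.toLinearMap : Module.End F (ι → F))) ^ i = 0 := by
  classical
  intro j hj
  set S : Module.End F (ι → F) := s.1.toLinearMap with hSdef
  set W := LinearMap.ker (S + 1) with hW
  set G : Module.End F (ι → F) := ∑ i ∈ Finset.range L, (-S) ^ i with hG
  have hSL : (-S) ^ L = 1 := (Even.neg_pow hLe S).trans (by rw [hSdef, ← orth_pow_LM, hs]; rfl)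
  have hSG : (S + 1) * G = 0 := by
    have h := mul_geom_sum (-S) L
    rw [hSL, sub_self, ← hG] at h
    refine LinearMap.ext fun v => ?_
    have h' := LinearMap.congr_fun h v
    simp only [Module.End.mul_apply, LinearMap.add_apply, LinearMap.sub_apply, LinearMap.neg_apply,
      Module.End.one_apply, LinearMap.zero_apply] at h' ⊢
    rw [← neg_zero, ← h']
    abel
  have hGW : ∀ v, G v ∈ W := fun v => LinearMap.congr_fun hSG v
  -- the restriction of the form
  have hRnd : Nondeg (res Q W) := by
    intro x hx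
    refine Subtype.ext (hQ _ fun v => ?_)
    have hxs : s.1 (x : ι → F) = -(x : ι → F) := eq_neg_of_add_eq_zero_left x.2
    have hkill : ∀ z, polar Q (x : ι → F) ((S + 1) z) = 0 := by
      intro z
      show polar Q (x : ι → F) (s.1 z + z) = 0
      have h1 := orth_polar s.2 (x : ι → F) z
      rw [hxs, polar_neg_left, neg_eq_iff_eq_neg] at h1
      rw [polar_add_right, h1]
      exact neg_add_cancel _
    have hdec : ∀ i, ∃ z, v - ((-S) ^ i) v = (S + 1) z := by
      intro i
      refine ⟨(∑ k ∈ Finset.range i, (-S) ^ k) v, ?_⟩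
      have h := LinearMap.congr_fun (mul_geom_sum (-S) i) v
      rw [Module.End.mul_apply, LinearMap.sub_apply, LinearMap.sub_apply, Module.End.one_apply,
        Module.End.one_apply, LinearMap.neg_apply] at h
      rw [LinearMap.add_apply, Module.End.one_apply, ← neg_sub, ← h]
      abel
    choose z hz using hdec
    have hsum : (L : F) • v = G v + (S + 1) (∑ i ∈ Finset.range L, z i) := by
      rw [map_sum, ← Finset.sum_congr rfl fun i _ => hz i, Finset.sum_sub_distrib, hG,
        LinearMap.sum_apply, Finset.sum_const, Finset.card_range, Nat.cast_smul_eq_nsmul]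
      abel
    have h0 : polar Q (x : ι → F) ((L : F) • v) = 0 := by
      rw [hsum, polar_add_right, hkill, add_zero]
      exact hx ⟨G v, hGW v⟩
    rw [polar_smul_right, smul_eq_mul] at h0
    exact (mul_eq_zero.1 h0).resolve_left hL
  -- parity of the eigenspace
  let neg1 : orth Q := ⟨LinearEquiv.neg F, fun v => by simp⟩
  have hne : ∀ v : ι → F, -v = v → v = 0 := by
    intro v hv
    have : (2 : F) • v = 0 := by
      rw [two_smul]; nth_rw 1 [← hv]; exact neg_add_cancel v
    exact (smul_eq_zero.1 this).resolve_left h2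
  have hevV : Even (finrank F (ι → F)) := by rw [Module.finrank_fintype_fun_eq_card]; exact he
  have hWeven : Even (finrank F W) := by
    have hd : Forms.dickson Q (neg1 * s) = 0 := by
      rw [dickson_mul hQ (Or.inl (exists_ne01 h2)), dickson_fpf neg1 hevV hne,
        dickson_fpf s hevV hfix, add_zero]
    have hker : fixSpace (neg1 * s).1 = W := by
      ext v
      rw [mem_fixSpace, hW, LinearMap.mem_ker]
      show -(s.1 v) = v ↔ s.1 v + v = 0
      rw [neg_eq_iff_add_eq_zero]
    have h := finrank_range_dev (neg1 * s).1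
    rw [hker] at h
    rw [Forms.dickson, ZMod.natCast_eq_zero_iff_even] at hd
    rw [← h, Nat.even_add] at hevV
    exact hevV.1 hd
  have hinv : ∀ v ∈ W, u.1 v ∈ W := by
    intro v hv
    rw [hW, LinearMap.mem_ker] at hv ⊢
    have h := congrArg (fun o : orth Q => o.1 v) hcomm.eq
    show s.1 (u.1 v) + u.1 v = 0
    rw [show s.1 (u.1 v) = u.1 (s.1 v) from h, ← map_add]
    exact (congrArg u.1 hv).trans (map_zero _)
  let uW : orth (res Q W) := ⟨LinearEquiv.ofInjectiveEndo
      (LinearMap.restrict (u.1.toLinearMap : Module.End F (ι → F)) hinv)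
      (fun a b hab => Subtype.ext (u.1.injective (congrArg Subtype.val hab))), fun v => u.2 _⟩
  have huW : ∀ (n : ℕ) (v : W), (((uW ^ n).1 v : W) : ι → F) = (u ^ n).1 v := by
    intro n
    induction n with
    | zero => intro v; rfl
    | succ n ih =>
      intro v
      rw [pow_succ', pow_succ']
      show u.1 (((uW ^ n).1 v : W) : ι → F) = u.1 ((u ^ n).1 v)
      rw [ih]
  have huWr : uW ^ r = 1 := Subtype.ext (LinearEquiv.ext fun v => Subtype.ext (by
    rw [huW, hu]; rfl))
  set N : Module.End F (ι → F) := u.1.toLinearMap - 1 with hN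
  set NW : Module.End F W := uW.1.toLinearMap - 1 with hNW
  have hNW' : ∀ (n : ℕ) (v : W), (((NW ^ n) v : W) : ι → F) = (N ^ n) v := by
    intro n
    induction n with
    | zero => intro v; rfl
    | succ n ih =>
      intro v
      rw [pow_succ', pow_succ', Module.End.mul_apply, Module.End.mul_apply, ← ih v]
      rfl
  have hNnil : IsNilpotent NW := by
    obtain ⟨k, hk⟩ := hn
    exact ⟨k, LinearMap.ext fun v => Subtype.ext (by rw [hNW', hk]; rfl)⟩
  have hrank : Even (finrank F (LinearMap.range NW)) := by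
    have hd : (r : ℕ) • Forms.dickson (res Q W) uW = 0 := by
      have hpw : ∀ n : ℕ, Forms.dickson (res Q W) (uW ^ n) = n • Forms.dickson (res Q W) uW := by
        intro n
        induction n with
        | zero => rw [pow_zero, zero_smul, Forms.dickson_one]
        | succ n ih => rw [pow_succ, dickson_mul hRnd (Or.inl (exists_ne01 h2)), ih, succ_nsmul]
      rw [← hpw, huWr, Forms.dickson_one]
    obtain ⟨k, rfl⟩ := hr
    rw [succ_nsmul, mul_nsmul, CharTwo.two_nsmul, smul_zero, zero_add] at hd
    rw [Forms.dickson, ZMod.natCast_eq_zero_iff_even] at hd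
    exact hd
  refine LinearMap.ext fun v => ?_
  rw [Module.End.mul_apply, LinearMap.zero_apply]
  have hrj : finrank F (LinearMap.range NW) + 1 ≤ j ∨ finrank F W = 0 := by
    by_cases h0 : finrank F W = 0
    · exact Or.inr h0
    · left
      have hle := LinearMap.range NW |>.finrank_le
      have hlt : finrank F (LinearMap.range NW) ≠ finrank F W := by
        intro heq
        have htop : LinearMap.range NW = ⊤ := Submodule.eq_top_of_finrank_eq heq
        obtain ⟨k, hk⟩ := hNnil
        have hsurj : Function.Surjective (NW ^ k) := by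
          rw [Module.End.coe_pow]
          exact (LinearMap.range_eq_top.1 htop).iterate k
        rw [hk] at hsurj
        have : Subsingleton W := ⟨fun a b => by
          obtain ⟨x, rfl⟩ := hsurj a
          obtain ⟨y, rfl⟩ := hsurj b
          rfl⟩
        exact h0 (finrank_zero_of_subsingleton)
      obtain ⟨a, ha⟩ := hWeven
      obtain ⟨b, hb⟩ := hrank
      omega
  rcases hrj with hrj | h0
  · have h1 : (NW ^ j) (⟨G v, hGW v⟩ : W) = 0 := by
      rw [pow_eq_zero_of_le hrj (pow_rank_succ_eq_zero hNnil)]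
      rfl
    have h2' := congrArg Subtype.val h1
    rw [hNW'] at h2'
    exact h2'
  · have hb : W = ⊥ := Submodule.finrank_eq_zero.1 h0
    have hv : G v ∈ W := hGW v
    rw [hb, Submodule.mem_bot] at hv
    rw [hv, map_zero]
where
  orth_pow_LM {g : orth Q} {n : ℕ} :
      ((g ^ n).1.toLinearMap : Module.End F (ι → F)) = g.1.toLinearMap ^ n := by
    induction n with
    | zero => rfl
    | succ n ih => rw [pow_succ, pow_succ, ← ih]; rfl

/-- The upper bound. -/
theorem plus_case (hQ : Nondeg Q) (hcard : Fintype.card ι = 8)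
    (hlvl : levelCard Q 1 = (Nat.card F ^ 4 - 1) * Nat.card F ^ 3) (p : ℕ) [hp : Fact p.Prime]
    [CharP F p] {g : orth Q} (hg : g ∈ commutator (orth Q)) (P : PartsData p g)
    (hfix : ∀ v, P.s.1 v = v → v = 0) : UpperList (Nat.card F) p (orderOf g) := by
  classical
  have := Fintype.ofFinite F
  set q := Nat.card F with hqdef
  have hqF : Fintype.card F = q := (Nat.card_eq_fintype_card).symm
  have hodd : Odd q := odd_card h2
  let K := AlgebraicClosure F
  have : CharP K p := charP_of_injective_algebraMap (algebraMap F K).injective p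
  set S : Module.End F (ι → F) := P.s.1.toLinearMap with hSdef
  have hLM : ∀ (o : orth Q) (n : ℕ),
      ((o ^ n).1.toLinearMap : Module.End F (ι → F)) = o.1.toLinearMap ^ n := by
    intro o n
    induction n with
    | zero => rfl
    | succ n ih => rw [pow_succ, pow_succ, ← ih]; rfl
  have hSL : S ^ P.L = 1 := by rw [hSdef, ← hLM, P.s_pow]; rfl
  have hmin : ∀ n, S ^ n = 1 → P.L ∣ n := fun n h => by
    rw [← P.orderOf_s]
    refine orderOf_dvd_of_pow_eq_one (Subtype.ext (LinearEquiv.toLinearMap_injective ?_))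
    rw [hLM, ← hSdef, h]; rfl
  have hL0 : ∀ (A : Type _) [Ring A] [CharP A p], (P.L : A) ≠ 0 := fun A _ _ h =>
    P.not_dvd ((CharP.cast_eq_zero_iff A p P.L).1 h)
  have hinvcp : ∀ r : K, mult K S r⁻¹ = mult K S r := by
    intro r
    by_cases hr : r = 0
    · rw [hr, inv_zero]
    set S' : Module.End F (ι → F) := (P.s⁻¹).1.toLinearMap
    have e1 : bc K S * bc K S' = 1 := by
      rw [← map_mul, ← map_one (bc (F := F) (ι := ι) K)]
      congr 1
      refine LinearMap.ext fun v => ?_
      show ((P.s * P.s⁻¹ : orth Q)).1 v = v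
      rw [mul_inv_cancel]; rfl
    have e2 : bc K S' * bc K S = 1 := by
      rw [← map_mul, ← map_one (bc (F := F) (ι := ι) K)]
      congr 1
      refine LinearMap.ext fun v => ?_
      show ((P.s⁻¹ * P.s : orth Q)).1 v = v
      rw [inv_mul_cancel]; rfl
    have hcp : (bc K S').charpoly = (bc K S).charpoly := by
      rw [bc_charpoly, bc_charpoly, charpoly_inv_orth hQ P.s]
    have hm : mult K S' r = mult K S r := by rw [mult, mult, hcp]
    rw [← hm, ← finrank_maxGen, ← finrank_maxGen]
    refine congrArg (fun W : Submodule K (ι → K) => finrank K W) (le_antisymm ?_ (maxGen_inv_le e1 e2 hr))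
    have := maxGen_inv_le e2 e1 (inv_ne_zero hr)
    rwa [inv_inv] at this
  have hroot : ∀ r : K, 0 < mult K S r → r ^ P.L = 1 := fun r hr => root_pow K hSL hr
  let D : RootData K q :=
    { m := mult K S
      R := (bc K S).charpoly.roots.toFinset
      mem := fun x => by
        rw [Multiset.mem_toFinset, ← Multiset.count_pos, Polynomial.count_roots]; rfl
      le := fun T => (mult_sum K T).trans hcard.le
      frob := fun x => by rw [← hqF]; exact mult_frob K x
      inv := hinvcp
      ne0 := fun x hx h => by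
        have := hroot x hx
        rw [h, zero_pow P.L_pos.ne'] at this
        exact zero_ne_one this
      ne1 := fun x hx => root_ne_one K hfix hx
      inj := fun x y h => (FiniteField.frobeniusAlgHom F K).toRingHom.injective (by
        show x ^ Fintype.card F = y ^ Fintype.card F
        rw [hqF]; exact h)
      odd := hodd }
  have hAll : ∀ N, D.All N → P.L ∣ N := fun N h => dvd_of_roots K p P.not_dvd hSL hmin h
  have hord : orderOf g = P.L * p ^ P.e := P.ord
  rcases Nat.eq_zero_or_pos P.e with he | he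
  · -- semisimple
    rw [he, pow_zero, mul_one] at hord
    rcases D.semisimple_cases with h | h | h | ⟨r, hr, hrne, hall⟩
    · exact Or.inl (hord ▸ hAll _ h)
    · exact Or.inr (Or.inl (hord ▸ hAll _ h))
    · exact Or.inr (Or.inr (Or.inl (hord ▸ hAll _ h)))
    left
    rw [hord]
    have hLr : orderOf r = P.L := Nat.dvd_antisymm (orderOf_dvd_of_pow_eq_one (hroot r hr))
      (hAll _ fun x hx => D.rel_pow (hall x hx) (pow_orderOf_eq_one r))
    have hfree : FreePow P.s := fun j hj hjL v hv => by
      by_contra hv0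
      rw [P.orderOf_s] at hjL
      obtain ⟨x, hx, hxj⟩ := exists_root_of_fix K (S := S) (j := j) (v := v) (by
        rw [hSdef, ← hLM]; exact hv) hv0
      exact pow_ne_one_of_lt_orderOf (by omega) (hLr.symm ▸ hjL)
        (D.rel_pow (D.rel_symm hr (hall x hx)) hxj)
    have hL2 : 2 ≤ P.L := by
      by_contra hlt
      push Not at hlt
      have h1 : P.L = 1 := by have := P.L_pos; omega
      exact D.ne1 r hr (by simpa [h1] using hroot r hr)
    obtain ⟨hdvd, hsign⟩ := levelSign_free P.s hfree (by rw [P.orderOf_s]; exact hL2)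
    rw [P.orderOf_s, hlvl] at hdvd hsign
    have hcop : P.L.Coprime (q ^ 3) := by
      obtain ⟨n, -, hn⟩ := FiniteField.card F p
      rw [← hqF, hn, ← pow_mul]
      exact ((hp.out.coprime_iff_not_dvd.2 P.not_dvd).symm).pow_right _
    have hd4 : P.L ∣ q ^ 4 - 1 := hcop.dvd_of_dvd_mul_right hdvd
    have hfac : q ^ 4 - 1 = (q ^ 2 - 1) * (q ^ 2 + 1) := by
      rw [show q ^ 4 = q ^ 2 * q ^ 2 by ring, mul_comm (q ^ 2 - 1), ← one_mul 1,
        Nat.mul_self_sub_mul_self_eq, one_mul]
    obtain ⟨c, hc⟩ := hd4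
    have hlcm : 2 * Nat.lcm (q ^ 2 - 1) (q ^ 2 + 1) = q ^ 4 - 1 := by
      have hq2 : 1 ≤ q ^ 2 := Nat.one_le_pow _ _ hodd.pos
      have hgcd : Nat.gcd (q ^ 2 - 1) (q ^ 2 + 1) = 2 := by
        refine Nat.dvd_antisymm ?_ (Nat.dvd_gcd ?_ ?_)
        · have := Nat.dvd_sub (Nat.gcd_dvd_right (q ^ 2 - 1) (q ^ 2 + 1))
            (Nat.gcd_dvd_left (q ^ 2 - 1) (q ^ 2 + 1))
          rwa [show q ^ 2 + 1 - (q ^ 2 - 1) = 2 by omega] at this
        · exact even_iff_two_dvd.1 (Nat.Odd.sub_odd hodd.pow odd_one)
        · exact even_iff_two_dvd.1 hodd.pow.add_one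
      rw [hfac, ← Nat.gcd_mul_lcm (q ^ 2 - 1) (q ^ 2 + 1), hgcd]
    rcases Nat.even_or_odd P.L with hLe | hLo
    · have hsp : spinHom hQ h2 (by rw [Module.finrank_fintype_fun_eq_card, hcard]; omega) P.s = 1 ∧
          Forms.dickson Q P.s = 0 := by
        have hs : P.s ∈ commutator (orth Q) := pow_mem hg _
        rw [mem_commutator_iff_spin hQ h2 (by rw [Module.finrank_fintype_fun_eq_card, hcard]; omega)] at hs
        exact ⟨hs.2, hs.1⟩
      rw [spinHom_of_dickson hQ h2 _ hsp.2, hsign hLe, hc, mul_assoc,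
        Nat.mul_div_cancel_left _ P.L_pos] at hsp
      have hev : Even (c * q ^ 3) := by
        by_contra h
        rw [Nat.not_even_iff_odd] at h
        rw [h.neg_one_pow] at hsp
        exact absurd hsp.1 (by decide)
      rw [Nat.even_mul] at hev
      obtain ⟨c', rfl⟩ := hev.resolve_right (Nat.not_even_iff_odd.2 hodd.pow)
      exact ⟨c', Nat.eq_of_mul_eq_mul_left two_pos (by rw [hlcm, hc]; ring)⟩
    · exact (Nat.coprime_two_right.2 hLo).dvd_of_dvd_mul_left (hlcm ▸ ⟨c, hc⟩)
  · -- a non-trivial unipotent part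
    set N : Module.End F (ι → F) := P.u.1.toLinearMap - 1 with hNdef
    have hUp : (P.u.1.toLinearMap : Module.End F (ι → F)) ^ p ^ P.e = 1 := by
      rw [← hLM, P.u_pow]; rfl
    have hNnil : IsNilpotent N := ⟨p ^ P.e, by rw [hNdef, sub_one_pow_eq (F := F) p, hUp, sub_self]⟩
    have hNne : ∀ i, i < P.e → N ^ p ^ i ≠ 0 := by
      intro i hi h
      rw [hNdef, sub_one_pow_eq (F := F) p, sub_eq_zero, ← hLM] at h
      have h1 : P.u ^ p ^ i = 1 := Subtype.ext (LinearEquiv.toLinearMap_injective h)
      have h2' := Nat.le_of_dvd (pow_pos hp.out.pos _) (orderOf_dvd_of_pow_eq_one h1)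
      rw [P.orderOf_u] at h2'
      exact absurd ((Nat.pow_le_pow_iff_right hp.out.one_lt).1 h2') (by omega)
    have hp2 : p ≠ 2 := fun h => h2 (by
      have := CharP.cast_eq_zero F p
      rw [h] at this
      exact_mod_cast this)
    have hcommSN : Commute S N := by
      have h : S * (P.u.1.toLinearMap : Module.End F (ι → F)) = P.u.1.toLinearMap * S :=
        congrArg (fun o : orth Q => (o.1.toLinearMap : Module.End F (ι → F))) P.comm.eq
      exact (show Commute S _ from h).sub_right (Commute.one_right S)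
    have key : ∀ i, i < P.e → ∃ r : K, (r ≠ -1 ∧ p ^ i < D.m r) ∨ (r = -1 ∧ p ^ i + 1 < D.m r) := by
      intro i hi
      by_contra hc
      push Not at hc
      refine hNne i hi (pow_eq_zero_of_mult K hcommSN hNnil (fun r hr => ?_) fun v hv => ?_)
      · exact ((hc r).1 hr)
      · have hm := (hc (-1)).2 rfl
        by_cases h0 : mult K S (-1) = 0
        · rw [← finrank_maxGen] at h0
          rw [Submodule.finrank_eq_zero.1 h0, Submodule.mem_bot] at hv
          rw [hv, map_zero]
        have hne : (-1 : K) ^ P.L = 1 := hroot _ (Nat.pos_of_ne_zero h0)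
        have hLe : Even P.L := by
          by_contra h
          rw [Nat.not_even_iff_odd] at h
          rw [h.neg_one_pow] at hne
          exact h2 (by
            apply (algebraMap F K).injective
            rw [map_ofNat, map_zero]
            linear_combination -hne)
        have hd : finrank F (LinearMap.ker (S + 1)) ≤ p ^ i + 1 := by
          refine le_trans ?_ hm
          show _ ≤ mult K S (-1)
          have h := LinearMap.finrank_eigenspace_le S (-1)
          have e : S - (-1 : F) • (1 : Module.End F (ι → F)) = S + 1 :=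
            LinearMap.ext fun x => by simp
          rw [Module.End.eigenspace_def, e] at h
          refine h.trans (le_of_eq ?_)
          rw [mult, bc_charpoly, ← map_one (algebraMap F K), ← map_neg,
            ← Polynomial.eq_rootMultiplicity_map (algebraMap F K).injective,
            ← Matrix.charpoly_toLin', Matrix.toLin'_toMatrix']
        have hz := neg_block h2 hQ (by rw [hcard]; decide) P.s P.u P.comm (hL0 F) hLe P.s_pow
          ((hp.out.odd_of_ne_two hp2).pow) P.u_pow hNnil hfix _ hd
        rw [Module.End.mem_maxGenEigenspace] at hv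
        obtain ⟨k, hk⟩ := hv
        have e : bc K S - (-1 : K) • (1 : Module.End K (ι → K)) = bc K S + 1 :=
          LinearMap.ext fun x => by simp
        rw [e] at hk
        have hSk : (-(bc K S)) ^ P.L = 1 := (Even.neg_pow hLe (bc K S)).trans (by rw [← map_pow, hSL, map_one])
        have hproj := neg_proj (hL0 K) hSk hk
        rw [← hproj, map_smul, ← Module.End.mul_apply]
        have hz' := congrArg (bc K) hz
        simp only [map_mul, map_sum, map_zero, map_pow, map_neg] at hz'
        rw [map_pow, hz', LinearMap.zero_apply, smul_zero]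
    have hcop : ∀ k, P.L.Coprime (p ^ k) := fun k =>
      ((hp.out.coprime_iff_not_dvd.2 P.not_dvd).symm).pow_right _
    have fin : ∀ {N k X : ℕ}, P.L ∣ N → P.e = k → p ^ k = X → orderOf g ∣ Nat.lcm N X := by
      intro N k X hN hk hX
      rw [hord, hk]
      exact (hcop k).mul_dvd_of_dvd_of_dvd (hN.trans (Nat.dvd_lcm_left _ _))
        (hX ▸ Nat.dvd_lcm_right _ _)
    have hp3 : 3 ≤ p := by have := hp.out.two_le; omega
    have hm8 : ∀ r, D.m r ≤ 8 := fun r => by simpa using D.le {r}
    rcases (show P.e = 1 ∨ P.e = 2 ∨ 3 ≤ P.e by omega) with he1 | he2 | he3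
    · obtain ⟨r, hr⟩ := key 0 (by omega)
      rw [pow_zero] at hr
      have hr' : (r ≠ -1 ∧ 2 ≤ D.m r) ∨ (r = -1 ∧ 3 ≤ D.m r) :=
        hr.imp (fun h => ⟨h.1, h.2⟩) (fun h => ⟨h.1, h.2⟩)
      rcases D.repeated_cases hr' with h | h | h
      · exact Or.inr (Or.inr (Or.inr (Or.inl (fin (hAll _ h) he1 (pow_one p)))))
      · exact Or.inr (Or.inr (Or.inr (Or.inr (Or.inl (fin (hAll _ h) he1 (pow_one p))))))
      · exact Or.inr (Or.inr (Or.inr (Or.inr (Or.inr (Or.inl (fin (hAll _ h) he1 (pow_one p)))))))
    · obtain ⟨r, hr⟩ := key 1 (by omega)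
      rw [pow_one] at hr
      rcases (show p = 3 ∨ p = 4 ∨ 5 ≤ p by omega) with h3 | h4 | h5
      · have hr' : (r ≠ -1 ∧ 4 ≤ D.m r) ∨ (r = -1 ∧ 5 ≤ D.m r) :=
          hr.imp (fun h => ⟨h.1, by omega⟩) (fun h => ⟨h.1, by omega⟩)
        refine Or.inr (Or.inr (Or.inr (Or.inr (Or.inr (Or.inr (Or.inl ⟨h3, ?_⟩))))))
        rcases D.block_cases hr' with h | h
        · exact Or.inl (fin (hAll _ h) he2 (by rw [h3]; norm_num))
        · exact Or.inr (fin (hAll _ h) he2 (by rw [h3]; norm_num))
      · subst h4; exact absurd hp.out (by decide)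
      · rcases hr with ⟨hne, hm⟩ | ⟨rfl, hm⟩
        · have := D.wt_two (show 0 < D.m r by omega) hne
          have := D.wt_le r
          omega
        · have := hm8 (-1)
          have h5' : p = 5 := by
            rcases (show p = 5 ∨ p = 6 by omega) with h | h
            · exact h
            · subst h; exact absurd hp.out (by decide)
          refine Or.inr (Or.inr (Or.inr (Or.inr (Or.inr (Or.inr (Or.inr ⟨h5', ?_⟩))))))
          exact fin (hAll _ (D.block_seven (by omega))) he2 (by rw [h5']; norm_num)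
    · exfalso
      obtain ⟨r, hr⟩ := key 2 (by omega)
      have := hm8 r
      have h9 : 9 ≤ p ^ 2 := by nlinarith
      omega

end Neg

end Cfsg.Agent.Lib.SpecNine64
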