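/-
`Ω₉(q)` and `V ⋊ Ω⁻₈(q)` have the same element orders, `q` odd.
-/
import Cfsg.Agent.Lib.SpecNine64.Decomp
import Cfsg.Agent.Lib.SpecNine64.Upper

set_option autoImplicit false
set_option linter.unusedSectionVars false

namespace Cfsg.Agent.Lib.SpecNine64

open Module QuadraticMap
open Cfsg.Agent.Lib.Forms
open Cfsg.Agent.Lib.Orth52
open Cfsg.Agent.Lib.SpectrumExt

variable {F : Type*} [Field F] [Finite F] {V : Type*} [AddCommGroup V] [Module F V]
  [FiniteDimensional F V] [Finite V] {V' : Type*} [AddCommGroup V'] [Module F V']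
  [FiniteDimensional F V'] [Finite V']
  {Q : QuadraticForm F V} {Q' : QuadraticForm F V'} (p : ℕ) [hp : Fact p.Prime] [CharP F p]

include hp

/-- The list is realised in `V ⋊ Ω⁻₈(q)`. -/
theorem good_of_upperList (hM : MinusEight Q) (h2 : (2 : F) ≠ 0) {N : ℕ}
    (hN : UpperList (Nat.card F) p N) : Good Q N := by
  rcases hN with h | h | h | h | h | h | ⟨h3, h | h⟩ | ⟨h5, h⟩
  · exact (good_pair hM h2 p (d := 2) (d' := 2) (by omega) (by omega) rfl).of_dvd h
  · exact (good_pair hM h2 p (d := 3) (d' := 1) (by omega) le_rfl rfl).of_dvd (by rwa [pow_one])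
  · refine (good_pair hM h2 p (d := 1) (d' := 3) le_rfl (by omega) rfl).of_dvd ?_
    rwa [pow_one, Nat.lcm_comm]
  · exact (good_mixed_minus hM h2 p).of_dvd h
  · exact (good_mixed_plus hM h2 p).of_dvd h
  · exact (good_quad hM h2 p).of_dvd h
  · exact (good_nine hM h2 p h3).1.of_dvd h
  · exact (good_nine hM h2 p h3).2.of_dvd h
  · exact (good_fifty hM h2 p h5).of_dvd h

theorem odd_p (h2 : (2 : F) ≠ 0) : Odd p :=
  hp.out.odd_of_ne_two fun h => h2 (by
    have := CharP.cast_eq_zero F p
    rw [h] at this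
    exact_mod_cast this)

/-- `Ω₉(q)` into `V ⋊ Ω⁻₈(q)`. -/
theorem good_of_nine (hQ : Nondeg Q') (hd : finrank F V' = 9) (hM : MinusEight Q) (h2 : (2 : F) ≠ 0)
    {g : orth Q'} (hg : g ∈ commutator (orth Q')) : Good Q (orderOf g) := by
  classical
  have hn : 2 ≤ finrank F V' := by omega
  obtain ⟨P⟩ := exists_parts p g
  obtain ⟨D, hV₁, hW, hk, hfixW⟩ := exists_decomp_parts P
  have hpodd : Odd (p ^ P.e) := (odd_p p h2).pow
  have hh := D.h_mem_commutator hQ h2 hn hg hpodd hk
  have hWnd := D.nondeg_W hQ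
  have hs : P.s ∈ commutator (orth Q') := pow_mem hg _
  have hWev : Even (finrank F D.W) := by
    have h := ((mem_commutator_iff_spin hQ h2 hn _).1 hs).1
    rw [Forms.dickson, ZMod.natCast_eq_zero_iff_even] at h
    rwa [hW]
  have hdim := D.dim
  rw [hd] at hdim
  obtain ⟨f, -, hf⟩ := (Nat.dvd_prime_pow hp.out).1 (orderOf_dvd_of_pow_eq_one hk)
  by_cases hW8 : finrank F D.W = 8
  · -- no fixed vectors away from a line
    have hk1 : D.k = 1 := by
      have hnil : IsNilpotent (D.k.1.toLinearMap - 1 : Module.End F D.V₁) := by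
        refine ⟨p ^ P.e, ?_⟩
        rw [sub_one_pow_eq (F := F) p, ← orth_toLM_pow, hk]
        exact sub_self _
      have h1 := pow_finrank_eq_zero hnil
      rw [show finrank F D.V₁ = 1 by omega, pow_one] at h1
      refine Subtype.ext (LinearEquiv.ext fun v => ?_)
      have := LinearMap.congr_fun h1 v
      rwa [LinearMap.sub_apply, LinearMap.zero_apply, sub_eq_zero] at this
    have hgh : g = (Sim.sub Q' D.W).ext hWnd D.h := by
      conv_lhs => rw [← D.ext_eq hQ]
      rw [hk1, map_one, mul_one]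
    have hord : orderOf g = orderOf D.h := by
      conv_lhs => rw [hgh]
      exact orderOf_injective _ (Sim.ext_injective _ _) _
    by_cases hlvl : levelCard (res Q' D.W) 1 = (Nat.card F ^ 4 - 1) * Nat.card F ^ 3
    · let b := Module.finBasisOfFinrankEq F D.W hW8
      let R : QuadraticForm F (Fin 8 → F) := (res Q' D.W).comp b.equivFun.symm.toLinearMap
      have hiso : ∀ z, R (b.equivFun z) = res Q' D.W z := fun z => by
        show res Q' D.W (b.equivFun.symm (b.equivFun z)) = res Q' D.W z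
        rw [LinearEquiv.symm_apply_apply]
      let iso : (res Q' D.W).IsometryEquiv R := { toLinearEquiv := b.equivFun, map_app' := hiso }
      let Φ : orth (res Q' D.W) ≃* orth R := orthCongr iso
      have hR : Nondeg R := hWnd.of_equiv iso
      have key : ∀ n : ℕ, orderOf ((Φ D.h) ^ n) = orderOf (g ^ n) := fun n => by
        conv_rhs => rw [hgh]
        rw [← map_pow, ← map_pow, MulEquiv.orderOf_eq,
          orderOf_injective _ (Sim.ext_injective _ _)]
      have hinj : Function.Injective fun x : orth R => (Sim.sub Q' D.W).ext hWnd (Φ.symm x) :=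
        (Sim.ext_injective _ hWnd).comp Φ.symm.injective
      let P' : PartsData p (Φ D.h) :=
        { L := P.L, e := P.e, a := P.a, b := P.b, not_dvd := P.not_dvd
          ord := by rw [MulEquiv.orderOf_eq, ← hord, P.ord]
          eq := hinj (by
            simp only [map_mul, map_pow, MulEquiv.symm_apply_apply]
            rw [← hgh]
            exact P.eq)
          ord_s := (key _).trans P.ord_s
          ord_u := (key _).trans P.ord_u }
      have hfix' : ∀ v, P'.s.1 v = v → v = 0 := by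
        intro v hv
        have e : P'.s = Φ (D.h ^ P.a) := by rw [map_pow]; rfl
        rw [e] at hv
        have h1 : b.equivFun ((D.h ^ P.a).1 (b.equivFun.symm v)) = v := hv
        rw [← LinearEquiv.eq_symm_apply] at h1
        have h3 := congrArg Subtype.val h1
        rw [Decomp.h, restr_pow_apply] at h3
        exact b.equivFun.symm.map_eq_zero_iff.1 (Subtype.ext (hfixW _ (b.equivFun.symm v).2 h3))
      have hlvlR : levelCard R 1 = (Nat.card F ^ 4 - 1) * Nat.card F ^ 3 := by
        rw [← hlvl]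
        exact card_level_congr (Nonempty.intro iso.symm) 1
      have hup := plus_case h2 hR (by simp) hlvlR p (apply_mem_commutator Φ.toMonoidHom hh) P' hfix'
      have hfin := good_of_upperList p hM h2 hup
      rwa [show orderOf (Φ.toMonoidHom D.h) = orderOf D.h from MulEquiv.orderOf_eq Φ _, ← hord] at hfin
    · obtain ⟨iso⟩ := equivalent_minus h2 (m := 4) hWnd hM.nd (by rw [hW8]) (by rw [hM.dim]) hlvl hM.lvl
      refine good_of_mem ((Sim.ofEquiv iso).ext_mem_commutator hWnd hh) ?_
      rw [orderOf_injective _ (Sim.ext_injective _ _), hord]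
  · obtain ⟨w, hw⟩ := hWev
    have hWle := hdim
    have hfin : ∀ {X : ℕ}, orderOf D.h ∣ X → p ^ f ∣ X → orderOf g ∣ X := fun h1 h3 =>
      D.orderOf_dvd_lcm.trans (Nat.lcm_dvd h1 (hf ▸ h3))
    rcases f with _ | f
    · obtain ⟨i, -⟩ := exists_embed h2 hWnd hM.nd (by rw [hM.dim]; omega)
      refine good_of_mem (i.ext_mem_commutator hWnd hh) ?_
      rw [orderOf_injective _ (Sim.ext_injective _ _)]
      exact hfin dvd_rfl (by simp)
    · have hne : (D.k.1.toLinearMap - 1 : Module.End F D.V₁) ^ p ^ f ≠ 0 := by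
        intro h
        rw [sub_one_pow_eq (F := F) p, sub_eq_zero, ← orth_toLM_pow] at h
        have h1 : D.k ^ p ^ f = 1 := Subtype.ext (LinearEquiv.toLinearMap_injective h)
        have h3 := Nat.le_of_dvd (pow_pos hp.out.pos _) (orderOf_dvd_of_pow_eq_one h1)
        rw [hf] at h3
        have := Nat.pow_lt_pow_right hp.out.one_lt (show f < f + 1 by omega)
        omega
      have hlt : p ^ f < finrank F D.V₁ := by
        by_contra h
        push Not at h
        refine hne (pow_eq_zero_of_le h (pow_finrank_eq_zero ⟨p ^ P.e, ?_⟩))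
        rw [sub_one_pow_eq (F := F) p, ← orth_toLM_pow, hk]
        exact sub_self _
      obtain ⟨k, hk2⟩ := (odd_p p h2).pow (n := f)
      have := good_small hM h2 p hWnd hh f k hk2.symm (by omega)
      exact this.of_dvd (hfin (Nat.dvd_lcm_left _ _) (Nat.dvd_lcm_right _ _))

/-- `V ⋊ Ω⁻₈(q)` into `Ω₉(q)`. -/
theorem nine_of_ext (hQ : Nondeg Q') (hd : finrank F V' = 9) (hM : MinusEight Q) (h2 : (2 : F) ≠ 0)
    (x : Semidirect.Ext (rho Q)) :
    ∃ y ∈ commutator (orth Q'), orderOf x ∣ orderOf y := by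
  classical
  obtain ⟨a, g, hg⟩ := x
  have hn : 2 ≤ finrank F V := by rw [hM.dim]; omega
  have hn' : 2 ≤ finrank F V' := by omega
  have hA : ∀ a : V, p • a = 0 := fun a => by
    rw [← Nat.cast_smul_eq_nsmul F, CharP.cast_eq_zero, zero_smul]
  obtain ⟨h0, h1⟩ := Semidirect.orderOf_mk (rho Q) hp.out hA (Multiplicative.toAdd a) ⟨g, hg⟩
  by_cases hnorm : Semidirect.norm (rho Q) (⟨g, hg⟩ : commutator (orth Q))
      (orderOf (⟨g, hg⟩ : commutator (orth Q))) (Multiplicative.toAdd a) = 0
  · obtain ⟨i, -⟩ := exists_embed h2 hM.nd hQ (by rw [hM.dim, hd]; omega)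
    refine ⟨_, i.ext_mem_commutator hM.nd hg, ?_⟩
    rw [orderOf_injective _ (Sim.ext_injective _ _)]
    have e := h0 hnorm
    rw [← Subgroup.orderOf_coe] at e
    exact e.dvd
  obtain ⟨P⟩ := exists_parts p g
  obtain ⟨D, hV₁, hW, hk, hfixW⟩ := exists_decomp_parts P
  have hpodd : Odd (p ^ P.e) := (odd_p p h2).pow
  have hh := D.h_mem_commutator hM.nd h2 hn hg hpodd hk
  have hWnd := D.nondeg_W hM.nd
  have hs : P.s ∈ commutator (orth Q) := pow_mem hg _
  have hWev : Even (finrank F D.W) := by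
    have h := ((mem_commutator_iff_spin hM.nd h2 hn _).1 hs).1
    rw [Forms.dickson, ZMod.natCast_eq_zero_iff_even] at h
    rwa [hW]
  have hdim := D.dim
  rw [hM.dim] at hdim
  set xg : commutator (orth Q) := ⟨g, hg⟩
  have hxM : orderOf xg = P.L * p ^ P.e := (Subgroup.orderOf_coe xg).symm.trans P.ord
  -- the fixed space is large
  have hbig : p ^ P.e ≤ finrank F D.V₁ := by
    by_contra hlt
    push Not at hlt
    apply hnorm
    have hzW : ∀ w ∈ D.W, Semidirect.norm (rho Q) xg (orderOf xg) w = 0 := by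
      intro w hw
      have hfixg : g.1 (Semidirect.norm (rho Q) xg (orderOf xg) w) =
          Semidirect.norm (rho Q) xg (orderOf xg) w := Semidirect.fix_norm (rho Q) w xg
      refine hfixW _ (Submodule.sum_mem _ fun i _ => ?_) ?_
      · show ((xg ^ i : commutator (orth Q)) : orth Q).1 w ∈ D.W
        rw [SubmonoidClass.coe_pow, ← restr_pow_apply g D.W D.invW i ⟨w, hw⟩]
        exact SetLike.coe_mem _
      · have hpow : ∀ n : ℕ, (g ^ n).1 (Semidirect.norm (rho Q) xg (orderOf xg) w) =
            Semidirect.norm (rho Q) xg (orderOf xg) w := by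
          intro n
          induction n with
          | zero => rfl
          | succ n ih =>
            rw [pow_succ']
            show g.1 ((g ^ n).1 _) = _
            rw [ih, hfixg]
        exact hpow P.a
    have hzV : ∀ v ∈ D.V₁, Semidirect.norm (rho Q) xg (orderOf xg) v = 0 := by
      intro v hv
      have e : Semidirect.norm (rho Q) xg (orderOf xg) v =
          ((∑ i ∈ Finset.range (P.L * p ^ P.e), (D.k.1.toLinearMap : Module.End F D.V₁) ^ i)
            ⟨v, hv⟩ : D.V₁) := by
        rw [hxM, Semidirect.norm, LinearMap.sum_apply, Submodule.coe_sum]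
        refine Finset.sum_congr rfl fun i _ => ?_
        show ((xg ^ i : commutator (orth Q)) : orth Q).1 v = _
        rw [SubmonoidClass.coe_pow, ← orth_toLM_pow]
        exact (restr_pow_apply g D.V₁ D.inv₁ i ⟨v, hv⟩).symm
      have hkm : (D.k.1.toLinearMap : Module.End F D.V₁) ^ p ^ P.e = 1 := by
        rw [← orth_toLM_pow, hk]; rfl
      have hz : (D.k.1.toLinearMap - 1 : Module.End F D.V₁) ^ (p ^ P.e - 1) = 0 :=
        pow_eq_zero_of_le (by omega) (pow_finrank_eq_zero ⟨p ^ P.e, by
          rw [sub_one_pow_eq (F := F) p, hkm, sub_self]⟩)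
      rw [e, geom_mul_eq (F := F) p hkm, hz, smul_zero]
      rfl
    obtain ⟨b, hb, c, hc, hbc⟩ := Submodule.mem_sup.1
      (D.sup ▸ Submodule.mem_top : Multiplicative.toAdd a ∈ D.V₁ ⊔ D.W)
    rw [← hbc]
    have hadd : ∀ u v, Semidirect.norm (rho Q) xg (orderOf xg) (u + v) =
        Semidirect.norm (rho Q) xg (orderOf xg) u + Semidirect.norm (rho Q) xg (orderOf xg) v :=
      fun u v => by simp [Semidirect.norm, map_add, Finset.sum_add_distrib]
    rw [hadd, hzV b hb, hzW c hc, add_zero]
  have hord : orderOf (⟨a, xg⟩ : Semidirect.Ext (rho Q)) = P.L * p ^ P.e * p := by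
    have e := h1 hnorm
    rw [hxM] at e
    exact e
  -- the Jordan block
  obtain ⟨w, hw⟩ := hWev
  obtain ⟨c, hc⟩ := hpodd
  obtain ⟨R, hR, u, hu, hu'⟩ := exists_regular (F := F) h2 (4 - w)
  have hRW := prod_nondeg hWnd hR
  obtain ⟨i⟩ := exists_sim_odd hRW hQ (by
    rw [finrank_prod, Module.finrank_fintype_fun_eq_card, Fintype.card_fin, hd]; omega)
    (by rw [hd]; decide)
  have hupow : u ^ p ^ (2 * (4 - w) + 1) = 1 := by
    refine Subtype.ext (LinearEquiv.toLinearMap_injective ?_)
    rw [orth_toLM_pow]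
    refine sub_eq_zero.1 ?_
    show _ - (1 : Module.End F _) = 0
    rw [← sub_one_pow_eq (F := F) p]
    exact pow_eq_zero_of_le (Nat.le_of_lt (Nat.lt_pow_self hp.out.one_lt)) hu'
  obtain ⟨f, -, hf⟩ := (Nat.dvd_prime_pow hp.out).1 (orderOf_dvd_of_pow_eq_one hupow)
  have hfe : P.e < f := by
    by_contra h
    push Not at h
    have h1 : u ^ p ^ P.e = 1 :=
      orderOf_dvd_iff_pow_eq_one.1 (hf ▸ Nat.pow_dvd_pow p h)
    apply hu
    refine pow_eq_zero_of_le (show p ^ P.e ≤ 2 * (4 - w) by omega) ?_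
    rw [sub_one_pow_eq (F := F) p, ← orth_toLM_pow, h1]
    exact sub_self _
  have hLh : P.L ∣ orderOf D.h := by
    have hk' : D.k ^ (orderOf D.h * p ^ P.e) = 1 := by rw [mul_comm, pow_mul, hk, one_pow]
    have h3 : orderOf g ∣ orderOf D.h * p ^ P.e :=
      orderOf_dvd_of_pow_eq_one (D.pow_eq_one (by rw [pow_mul, pow_orderOf_eq_one, one_pow]) hk')
    rw [P.ord] at h3
    exact (((hp.out.coprime_iff_not_dvd.2 P.not_dvd).symm).pow_right P.e).dvd_of_dvd_mul_right
      ((dvd_mul_right _ _).trans h3)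
  refine ⟨i.ext hRW (both hWnd hR D.h u), ?_, ?_⟩
  · rw [both, map_mul]
    refine mul_mem (i.ext_mem_commutator hRW ((Sim.inl _ R).ext_mem_commutator hWnd hh))
      (pow_odd_mem_commutator hQ h2 hn' ((odd_p p h2).pow (n := 2 * (4 - w) + 1)) ?_)
    rw [← map_pow, ← map_pow, hupow, map_one, map_one]
  · show orderOf (⟨a, xg⟩ : Semidirect.Ext (rho Q)) ∣ _
    rw [hord, orderOf_injective _ (Sim.ext_injective _ _), mul_assoc, ← pow_succ]
    obtain ⟨e1, e2⟩ := both_dvd hWnd hR D.h u
    refine (((hp.out.coprime_iff_not_dvd.2 P.not_dvd).symm).pow_right _).mul_dvd_of_dvd_of_dvd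
      (hLh.trans e1) ?_
    rw [hf] at e2
    exact (Nat.pow_dvd_pow p hfe).trans e2

end Cfsg.Agent.Lib.SpecNine64
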